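import Cfsg.Agent.Perm.ZassKernel
import Cfsg.Agent.Solv.CyclicP

/-!
# Doubly transitive groups of unitary degree with a cyclic two-point stabiliser

The setting of O'Nan's characterisation of `PSU₃(q)`, `q` odd: basic facts, Witt's lemma for the
subgroups of the cyclic two-point stabiliser and the counting of fixed points.
-/

set_option autoImplicit false

open MulAction

namespace Cfsg.Lib.U3

/-- Fibre counting for a map that is constant exactly on the left cosets of `K`. -/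
theorem ncard_preimage_of_coset {G X : Type*} [Group G] (K : Subgroup G) (f : G → X)
    (hf : ∀ g g', f g = f g' ↔ g⁻¹ * g' ∈ K) (S : Set X) (hS : ∀ s ∈ S, ∃ g, f g = s) :
    (f ⁻¹' S).ncard = S.ncard * Nat.card K := by
  let F : G ⧸ K → X := Quotient.lift f fun g g' h => (hf g g').2 (QuotientGroup.leftRel_apply.1 h)
  have hF : Function.Injective F := by
    intro x y e
    obtain ⟨g, rfl⟩ := QuotientGroup.mk_surjective x
    obtain ⟨g', rfl⟩ := QuotientGroup.mk_surjective y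
    exact QuotientGroup.eq.2 ((hf g g').1 e)
  have h1 : f ⁻¹' S = QuotientGroup.mk ⁻¹' (F ⁻¹' S) := rfl
  have h2 : (F ⁻¹' S).ncard = S.ncard :=
    Set.ncard_preimage_of_injective_subset_range hF fun s hs => by
      obtain ⟨g, rfl⟩ := hS s hs
      exact ⟨QuotientGroup.mk g, rfl⟩
  rw [h1, ← Nat.card_coe_set_eq, Nat.card_congr (QuotientGroup.preimageMkEquivSubgroupProdSet _ _),
    Nat.card_prod, Nat.card_coe_set_eq, h2, mul_comm]

theorem ncard_offDiag {X : Type*} [Finite X] (F : Set X) :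
    F.offDiag.ncard = F.ncard * (F.ncard - 1) := by
  classical
  have hF := F.toFinite
  lift F to Finset X using hF
  rw [← Finset.coe_offDiag, Set.ncard_coe_finset, Set.ncard_coe_finset, Finset.offDiag_card,
    Nat.mul_sub_one]

/-- The hypotheses of O'Nan's theorem. -/
structure OData (G Ω : Type*) [Group G] [MulAction G Ω] where
  a : Ω
  b : Ω
  U : Subgroup G
  p : ℕ
  n : ℕ
  hp : p.Prime
  hp2 : p ≠ 2
  hn : 1 ≤ n
  ne : b ≠ a
  tr : ∀ c, ∃ g : G, g • a = c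
  U_fix : ∀ x ∈ U, x • a = a
  norm : ∀ g : G, g • a = a → ∀ x ∈ U, g * x * g⁻¹ ∈ U
  trans : ∀ c, c ≠ a → ∃ x ∈ U, x • b = c
  free : ∀ x ∈ U, x • b = b → x = 1
  card_U : Nat.card U = (p ^ n) ^ 3
  cyc : IsCyclic ↥(stabilizer G a ⊓ stabilizer G b)
  card_H : Nat.gcd 3 (p ^ n + 1) * Nat.card ↥(stabilizer G a ⊓ stabilizer G b) = (p ^ n) ^ 2 - 1
  faith : ∀ g : G, (∀ c : Ω, g • c = c) → g = 1

namespace OData

variable {G Ω : Type*} [Group G] [MulAction G Ω] (D : OData G Ω)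

/-- The two-point stabiliser. -/
def H : Subgroup G := stabilizer G D.a ⊓ stabilizer G D.b

/-- The parameter `q`. -/
def q : ℕ := D.p ^ D.n

theorem mem_H {h : G} : h ∈ D.H ↔ h • D.a = D.a ∧ h • D.b = D.b := Iff.rfl

instance cyc' : IsCyclic D.H := D.cyc

theorem odd_p : Odd D.p := D.hp.odd_of_ne_two D.hp2

theorem odd_q : Odd D.q := D.odd_p.pow

theorem three_le_p : 3 ≤ D.p := by
  have := D.hp.two_le
  have := D.hp2
  omega

theorem three_le_q : 3 ≤ D.q :=
  D.three_le_p.trans (Nat.le_self_pow (by have := D.hn; omega) _)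

theorem card_U' : Nat.card D.U = D.q ^ 3 := D.card_U

theorem card_H' : Nat.gcd 3 (D.q + 1) * Nat.card D.H = D.q ^ 2 - 1 := D.card_H

theorem isPGroup_U : IsPGroup D.p D.U :=
  IsPGroup.of_card (n := D.n * 3) (by rw [D.card_U, pow_mul])

/-- The data moved by a group element. -/
def move (g : G) : OData G Ω where
  a := g • D.a
  b := g • D.b
  U := D.U.map (MulAut.conj g).toMonoidHom
  p := D.p
  n := D.n
  hp := D.hp
  hp2 := D.hp2
  hn := D.hn
  ne := fun e => D.ne (MulAction.injective g e)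
  tr := fun c => by
    obtain ⟨k, hk⟩ := D.tr c
    exact ⟨k * g⁻¹, by rw [mul_smul, inv_smul_smul, hk]⟩
  U_fix := by
    rintro _ ⟨x, hx, rfl⟩
    change (g * x * g⁻¹) • _ = _
    rw [mul_smul, mul_smul, inv_smul_smul, D.U_fix x hx]
  norm := by
    rintro k hk _ ⟨x, hx, rfl⟩
    refine ⟨_, D.norm (g⁻¹ * k * g) (by rw [mul_smul, mul_smul, hk, inv_smul_smul]) x hx, ?_⟩
    change g * _ * g⁻¹ = k * (g * x * g⁻¹) * k⁻¹
    group
  trans := fun c hc => by
    obtain ⟨x, hx, e⟩ := D.trans (g⁻¹ • c) fun e => hc (by rw [← e, smul_inv_smul])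
    refine ⟨_, ⟨x, hx, rfl⟩, ?_⟩
    change (g * x * g⁻¹) • _ = _
    rw [mul_smul, mul_smul, inv_smul_smul, e, smul_inv_smul]
  free := by
    rintro _ ⟨x, hx, rfl⟩ e
    change (g * x * g⁻¹) • _ = _ at e
    rw [mul_smul, mul_smul, inv_smul_smul] at e
    rw [D.free x hx (MulAction.injective g e), map_one]
  card_U := by rw [Subgroup.card_map_of_injective (MulAut.conj g).injective, D.card_U]
  cyc := by
    rw [stabilizer_smul_eq_stabilizer_map_conj, stabilizer_smul_eq_stabilizer_map_conj,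
      ← Subgroup.map_inf _ _ _ (MulAut.conj g).injective]
    have := D.cyc
    exact isCyclic_of_surjective _ ((MulAut.conj g).subgroupMap _).surjective
  card_H := by
    rw [stabilizer_smul_eq_stabilizer_map_conj, stabilizer_smul_eq_stabilizer_map_conj,
      ← Subgroup.map_inf _ _ _ (MulAut.conj g).injective,
      Subgroup.card_map_of_injective (MulAut.conj g).injective, D.card_H]
  faith := D.faith

@[simp] theorem move_a (g : G) : (D.move g).a = g • D.a := rfl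
@[simp] theorem move_b (g : G) : (D.move g).b = g • D.b := rfl
@[simp] theorem move_q (g : G) : (D.move g).q = D.q := rfl

theorem mem_move_U {g x : G} : x ∈ (D.move g).U ↔ g⁻¹ * x * g ∈ D.U := by
  constructor
  · rintro ⟨y, hy, rfl⟩
    change g⁻¹ * (g * y * g⁻¹) * g ∈ _
    simpa [mul_assoc] using hy
  · intro h
    refine ⟨_, h, ?_⟩
    change g * _ * g⁻¹ = x
    group

theorem two {c c' : Ω} (h : c ≠ c') : ∃ g : G, g • D.a = c ∧ g • D.b = c' := by
  obtain ⟨g, rfl⟩ := D.tr c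
  obtain ⟨x, hx, e⟩ := D.trans (g⁻¹ • c') fun e => h (by rw [← e, smul_inv_smul])
  exact ⟨g * x, by rw [mul_smul, D.U_fix x hx], by rw [mul_smul, e, smul_inv_smul]⟩

theorem free' {x : G} (hx : x ∈ D.U) {c : Ω} (hc : c ≠ D.a) (e : x • c = c) : x = 1 := by
  obtain ⟨u, hu, rfl⟩ := D.trans c hc
  have := D.free (u⁻¹ * x * u) (D.U.mul_mem (D.U.mul_mem (D.U.inv_mem hu) hx) hu)
    (by rw [mul_smul, mul_smul, e, inv_smul_smul])
  calc x = u * (u⁻¹ * x * u) * u⁻¹ := by group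
    _ = 1 := by rw [this]; group

theorem U_inj {x y : G} (hx : x ∈ D.U) (hy : y ∈ D.U) (e : x • D.b = y • D.b) : x = y := by
  have := D.free (y⁻¹ * x) (D.U.mul_mem (D.U.inv_mem hy) hx) (by rw [mul_smul, e, inv_smul_smul])
  exact (inv_mul_eq_one.1 this).symm

theorem smul_b_ne {x : G} (hx : x • D.a = D.a) : x • D.b ≠ D.a := fun e =>
  D.ne (MulAction.injective x (e.trans hx.symm))

theorem decomp {g : G} (hg : g • D.a = D.a) : ∃ x ∈ D.U, ∃ h ∈ D.H, g = x * h := by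
  obtain ⟨x, hx, e⟩ := D.trans _ (D.smul_b_ne hg)
  refine ⟨x, hx, x⁻¹ * g, ⟨?_, ?_⟩, by group⟩
  · change _ • _ = _
    rw [mul_smul, hg, inv_smul_eq_iff, D.U_fix x hx]
  · change _ • _ = _
    rw [mul_smul, ← e, inv_smul_smul]

theorem H_comm {h k : G} (hh : h ∈ D.H) (hk : k ∈ D.H) : h * k = k * h := by
  have := congrArg Subtype.val
    ((IsCyclic.commGroup (α := D.H)).mul_comm ⟨h, hh⟩ ⟨k, hk⟩)
  exact this

theorem conj_mem_H {s h : G} (h1 : s • D.a = D.b) (h2 : s • D.b = D.a) (hh : h ∈ D.H) :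
    s * h * s⁻¹ ∈ D.H :=
  ⟨show _ • _ = _ by rw [mul_smul, mul_smul, inv_smul_eq_iff.2 h2.symm, hh.2, h2],
    show _ • _ = _ by rw [mul_smul, mul_smul, inv_smul_eq_iff.2 h1.symm, hh.1, h1]⟩

/-- An element of `U` is moved by `h ∈ H` as the corresponding point. -/
theorem smul_smul_b {h x : G} (hh : h ∈ D.H) : h • x • D.b = (h * x * h⁻¹) • D.b := by
  rw [mul_smul, mul_smul, inv_smul_eq_iff.2 hh.2.symm]

theorem fix_iff {h x : G} (hh : h ∈ D.H) (hx : x ∈ D.U) :
    h • x • D.b = x • D.b ↔ h * x = x * h := by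
  rw [D.smul_smul_b hh]
  refine ⟨fun e => mul_inv_eq_iff_eq_mul.1 (D.U_inj (D.norm h hh.1 x hx) hx e), fun e => ?_⟩
  rw [e, mul_inv_cancel_right]

variable [Finite G]

include D in
theorem finite : Finite Ω :=
  Finite.of_surjective (fun g : G => g • D.a) D.tr

theorem zpowers_eq {h k : G} (hh : h ∈ D.H) (hk : k ∈ D.H) (e : orderOf h = orderOf k) :
    Subgroup.zpowers h = Subgroup.zpowers k :=
  Solv.PG.eq_of_card_eq_of_isCyclic (A := D.H) (Subgroup.zpowers_le.2 hh)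
    (Subgroup.zpowers_le.2 hk) (by rw [Nat.card_zpowers, Nat.card_zpowers, e])

theorem conj_mem_zpowers {h g : G} (hh : h ∈ D.H) (hg : g * h * g⁻¹ ∈ D.H) :
    g * h * g⁻¹ ∈ Subgroup.zpowers h := by
  rw [D.zpowers_eq hh hg (((MulAut.conj g).orderOf_eq h).symm)]
  exact Subgroup.mem_zpowers _

/-- The fixed points of a subset of `H`. -/
theorem ncard_fix (S : Set G) (hS : ∀ s ∈ S, s ∈ D.H) :
    {c : Ω | ∀ s ∈ S, s • c = c}.ncard = Nat.card ↥(D.U ⊓ Subgroup.centralizer S) + 1 := by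
  have := D.finite
  have e : {c : Ω | ∀ s ∈ S, s • c = c} =
      insert D.a ((fun x : G => x • D.b) '' (D.U ⊓ Subgroup.centralizer S : Subgroup G)) := by
    ext c
    constructor
    · intro hc
      by_cases h : c = D.a
      · exact Or.inl h
      · obtain ⟨x, hx, rfl⟩ := D.trans c h
        exact Or.inr ⟨x, ⟨hx, fun s hs => (D.fix_iff (hS s hs) hx).1 (hc s hs)⟩, rfl⟩
    · rintro (rfl | ⟨x, ⟨hx, hx'⟩, rfl⟩) s hs
      · exact (hS s hs).1
      · exact (D.fix_iff (hS s hs) hx).2 (hx' s hs)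
  rw [e, Set.ncard_insert_of_notMem, Set.InjOn.ncard_image fun x hx y hy => D.U_inj hx.1 hy.1,
    ← Nat.card_coe_set_eq]
  · rfl
  · rintro ⟨x, hx, e⟩
    exact D.smul_b_ne (D.U_fix x hx.1) e

theorem ncard_fixedBy {h : G} (hh : h ∈ D.H) :
    (fixedBy Ω h).ncard = Nat.card ↥(D.U ⊓ Subgroup.centralizer {h}) + 1 := by
  rw [← D.ncard_fix {h} (by simpa using hh)]
  congr 1
  ext c
  simp

theorem card_Ω : Nat.card Ω = D.q ^ 3 + 1 := by
  have := D.ncard_fixedBy D.H.one_mem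
  rw [fixedBy_one_eq_univ, Set.ncard_univ] at this
  rw [this, ← D.card_U']
  congr 3
  exact inf_eq_left.2 fun x _ => by simp [Subgroup.mem_centralizer_iff]

omit [Finite G] in
/-- Counting group elements by the images of `a` and `b`. -/
theorem ncard_pairs (S : Set (Ω × Ω)) (hS : ∀ s ∈ S, s.1 ≠ s.2) :
    {g : G | (g • D.a, g • D.b) ∈ S}.ncard = S.ncard * Nat.card D.H := by
  refine ncard_preimage_of_coset D.H (fun g => (g • D.a, g • D.b)) (fun g g' => ?_) S fun s hs => ?_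
  · rw [Prod.mk.injEq, mem_H, mul_smul, mul_smul, inv_smul_eq_iff, inv_smul_eq_iff, eq_comm,
      eq_comm (a := g • D.b)]
  · obtain ⟨g, h1, h2⟩ := D.two (hS s hs)
    exact ⟨g, Prod.ext h1 h2⟩

theorem card_G : Nat.card G = (D.q ^ 3 + 1) * D.q ^ 3 * Nat.card D.H := by
  have := D.finite
  have h := D.ncard_pairs (Set.univ : Set Ω).offDiag fun s hs => hs.2.2
  rw [ncard_offDiag, Set.ncard_univ, D.card_Ω, Nat.add_sub_cancel] at h
  rw [← h, ← Set.ncard_univ]
  congr 1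
  ext g
  simpa using fun e => D.ne (MulAction.injective g e).symm

/-- Witt's lemma for cyclic subgroups of `H`. -/
theorem mem_normalizer_iff {h g : G} (hh : h ∈ D.H) :
    g ∈ Subgroup.normalizer (Subgroup.zpowers h : Set G) ↔
      h • g • D.a = g • D.a ∧ h • g • D.b = g • D.b := by
  constructor
  · intro hg
    have := (Subgroup.mem_normalizer_iff''.1 hg h).1 (Subgroup.mem_zpowers h)
    have := Subgroup.zpowers_le.2 hh this
    refine ⟨?_, ?_⟩
    · rw [← inv_smul_eq_iff, ← mul_smul, ← mul_smul]; exact this.1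
    · rw [← inv_smul_eq_iff, ← mul_smul, ← mul_smul]; exact this.2
  · rintro ⟨h1, h2⟩
    have h3 : g⁻¹ * h * g⁻¹⁻¹ ∈ D.H :=
      ⟨show _ • _ = _ by rw [inv_inv, mul_smul, mul_smul, h1, inv_smul_smul],
        show _ • _ = _ by rw [inv_inv, mul_smul, mul_smul, h2, inv_smul_smul]⟩
    rw [← Subgroup.inv_mem_iff]
    refine Subgroup.mem_normalizer_fintype ?_
    rintro _ ⟨k, rfl⟩
    change g⁻¹ * h ^ k * g⁻¹⁻¹ ∈ _
    rw [← conj_zpow]
    exact Subgroup.zpow_mem _ (D.conj_mem_zpowers hh h3) k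

omit [Finite G] in
theorem fix_of_mem_normalizer {h g : G} (hg : g ∈ Subgroup.normalizer (Subgroup.zpowers h : Set G))
    {c : Ω} (hc : h • c = c) : h • g • c = g • c := by
  have := (Subgroup.mem_normalizer_iff''.1 hg h).1 (Subgroup.mem_zpowers h)
  have h2 : Subgroup.zpowers h ≤ stabilizer G c := Subgroup.zpowers_le.2 hc
  rw [← inv_smul_eq_iff, ← mul_smul, ← mul_smul]
  exact h2 this

theorem witt {h : G} (hh : h ∈ D.H) {c c' : Ω} (hcc : c ≠ c') (hc : h • c = c) (hc' : h • c' = c') :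
    ∃ g ∈ Subgroup.normalizer (Subgroup.zpowers h : Set G), g • D.a = c ∧ g • D.b = c' := by
  obtain ⟨g, rfl, rfl⟩ := D.two hcc
  exact ⟨g, (D.mem_normalizer_iff hh).2 ⟨hc, hc'⟩, rfl, rfl⟩

theorem card_normalizer {h : G} (hh : h ∈ D.H) :
    Nat.card (Subgroup.normalizer (Subgroup.zpowers h : Set G)) =
      (Nat.card ↥(D.U ⊓ Subgroup.centralizer {h}) + 1) *
        Nat.card ↥(D.U ⊓ Subgroup.centralizer {h}) * Nat.card D.H := by
  have := D.finite
  have e := D.ncard_pairs (fixedBy Ω h).offDiag fun s hs => hs.2.2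
  rw [ncard_offDiag, D.ncard_fixedBy hh, Nat.add_sub_cancel] at e
  rw [← e, ← Nat.card_coe_set_eq]
  refine Nat.card_congr (Equiv.subtypeEquivRight fun g => ?_)
  rw [D.mem_normalizer_iff hh]
  exact ⟨fun h => ⟨h.1, h.2, fun e => D.ne (MulAction.injective g e).symm⟩, fun h => ⟨h.1, h.2.1⟩⟩

omit [Finite G] in
theorem exists_card_cent (S : Set G) :
    ∃ k ≤ D.n * 3, Nat.card ↥(D.U ⊓ Subgroup.centralizer S) = D.p ^ k := by
  have := Subgroup.card_dvd_of_le (inf_le_left : D.U ⊓ Subgroup.centralizer S ≤ D.U)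
  rw [D.card_U, ← pow_mul] at this
  exact (Nat.dvd_prime_pow D.hp).1 this

theorem card_cent_succ_dvd {h : G} (hh : h ∈ D.H) :
    Nat.card ↥(D.U ⊓ Subgroup.centralizer {h}) + 1 ∣ D.q ^ 3 + 1 := by
  have h1 := Subgroup.card_subgroup_dvd_card (Subgroup.normalizer (Subgroup.zpowers h : Set G))
  rw [D.card_normalizer hh, D.card_G] at h1
  have h2 := Nat.dvd_of_mul_dvd_mul_right Nat.card_pos h1
  obtain ⟨k, -, hk⟩ := D.exists_card_cent {h}
  rw [hk] at h2 ⊢
  refine Nat.Coprime.dvd_of_dvd_mul_right ?_ (dvd_of_mul_right_dvd h2)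
  rcases k with _ | k
  · exact Nat.Coprime.pow_right _ ((Nat.coprime_two_left).2 D.odd_q)
  · refine Nat.Coprime.pow_right _ (Nat.Coprime.pow_right _ ?_)
    rw [pow_succ, add_comm, Nat.coprime_add_mul_right_left]
    exact Nat.coprime_one_left _

theorem card_cent_ne {h : G} (hh : h ∈ D.H) (h1 : h ≠ 1) :
    Nat.card ↥(D.U ⊓ Subgroup.centralizer {h}) ≠ D.q ^ 3 := by
  intro e
  have := D.finite
  have h2 := D.ncard_fixedBy hh
  rw [e, ← D.card_Ω, ← Set.ncard_univ] at h2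
  have h3 := Set.eq_of_subset_of_ncard_le (Set.subset_univ _) h2.ge
  exact h1 (D.faith h fun c => show c ∈ fixedBy Ω h from h3 ▸ Set.mem_univ c)

/-- An element of `H` with three fixed points is central in the normaliser of the group it
generates. -/
theorem comm_of_third {h : G} (hh : h ∈ D.H) {c : Ω} (hca : c ≠ D.a) (hcb : c ≠ D.b)
    (hc : h • c = c) {g : G} (hg : g ∈ Subgroup.normalizer (Subgroup.zpowers h : Set G)) :
    g * h = h * g := by
  set N := Subgroup.normalizer (Subgroup.zpowers h : Set G)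
  have hHN : ∀ k ∈ D.H, k ∈ N := fun k hk => (D.mem_normalizer_iff hh).2
    ⟨by rw [hk.1, hh.1], by rw [hk.2, hh.2]⟩
  have s1 : ∀ g ∈ N, g • D.a = D.a → g * h = h * g := by
    intro g hg hga
    obtain ⟨x, hx, k, hk, rfl⟩ := D.decomp hga
    have hxN : x ∈ N := (N.mul_mem_cancel_right (hHN k hk)).1 hg
    have := (D.fix_iff hh hx).1 ((D.mem_normalizer_iff hh).1 hxN).2
    rw [mul_assoc, D.H_comm hk hh, ← mul_assoc, ← this, mul_assoc]
  have s2 : ∀ g ∈ N, ∀ y : Ω, h • y = y → g • y = y → g * h = h * g := by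
    intro g hg y hy hgy
    obtain ⟨g₀, hg₀, e⟩ : ∃ g₀ ∈ N, g₀ • D.a = y := by
      by_cases hyb : y = D.b
      · obtain ⟨g₀, h1, h2, -⟩ := D.witt hh D.ne hh.2 hh.1
        exact ⟨g₀, h1, hyb ▸ h2⟩
      · obtain ⟨g₀, h1, h2, -⟩ := D.witt hh hyb hy hh.2
        exact ⟨g₀, h1, h2⟩
    subst e
    have h1 := s1 (g₀⁻¹ * g * g₀) (N.mul_mem (N.mul_mem (N.inv_mem hg₀) hg) hg₀)
      (by rw [mul_smul, mul_smul, hgy, inv_smul_smul])
    obtain ⟨j, hj⟩ := (Subgroup.mem_normalizer_iff''.1 hg₀ h).1 (Subgroup.mem_zpowers h)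
    have h2 : Commute (g₀⁻¹ * g * g₀) (g₀⁻¹ * h * g₀) := hj ▸ Commute.zpow_right h1 j
    calc g * h = g₀ * ((g₀⁻¹ * g * g₀) * (g₀⁻¹ * h * g₀)) * g₀⁻¹ := by group
      _ = h * g := by rw [h2.eq]; group
  by_cases hga : g • D.a = D.a
  · exact s1 g hg hga
  have hx : h • g • D.a = g • D.a := ((D.mem_normalizer_iff hh).1 hg).1
  obtain ⟨y, hy, hy1, hy2⟩ : ∃ y : Ω, h • y = y ∧ y ≠ D.a ∧ y ≠ g • D.a := by
    by_cases e : g • D.a = D.b
    · exact ⟨c, hc, hca, e ▸ hcb⟩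
    · exact ⟨D.b, hh.2, D.ne, Ne.symm e⟩
  obtain ⟨g₁, m₁, a₁, b₁⟩ := D.witt hh hy1 hy hh.1
  obtain ⟨g₂, m₂, a₂, b₂⟩ := D.witt hh hy2 hy hx
  have m₃ := N.mul_mem m₂ (N.inv_mem m₁)
  have h1 := s2 _ m₃ y hy (by rw [mul_smul, inv_smul_eq_iff.2 a₁.symm, a₂])
  have h2 := s1 _ (N.mul_mem (N.inv_mem m₃) hg) (by
    rw [mul_smul, inv_smul_eq_iff, mul_smul, inv_smul_eq_iff.2 b₁.symm, b₂])
  calc g * h = g₂ * g₁⁻¹ * (((g₂ * g₁⁻¹)⁻¹ * g) * h) := by group
    _ = h * g := by rw [h2, ← mul_assoc, ← mul_assoc, h1]; group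

theorem swap_mem_normalizer {s h : G} (h1 : s • D.a = D.b) (h2 : s • D.b = D.a) (hh : h ∈ D.H) :
    s ∈ Subgroup.normalizer (Subgroup.zpowers h : Set G) :=
  (D.mem_normalizer_iff hh).2 ⟨by rw [h1, hh.2], by rw [h2, hh.1]⟩

end OData

end Cfsg.Lib.U3
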