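import Cfsg.Agent.U3.OddSL2
import Cfsg.Agent.U3.Main

/-!
# O'Nan's characterisation of `PSU₃(q)`, `q` odd
-/

set_option autoImplicit false

open MulAction OnePoint Matrix
open scoped MatrixGroups

namespace Cfsg.Lib.U3

open Cfsg.Lib.Chev.Core Cfsg.Lib.Class

namespace OData

variable {G Ω : Type*} [Group G] [MulAction G Ω] (D : OData G Ω) [Finite G]

theorem exists_eta : ∃ η ∈ D.H, ∃ k, η ^ 2 ^ k = D.z ∧ ¬ 2 ^ (k + 1) ∣ D.q - 1 := by
  have hq := D.three_le_q
  obtain ⟨k, m, hm, e⟩ := Nat.exists_eq_two_pow_mul_odd (n := D.q - 1) (by omega)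
  have h1 : 2 ^ (k + 1) ∣ Nat.card D.H := by
    refine Nat.Coprime.dvd_of_dvd_mul_left
      (Nat.Coprime.pow_left _ ((Nat.coprime_two_left).2 D.odd_gcd)) ?_
    rw [D.card_H', D.sq_sub_one, pow_succ]
    exact Nat.mul_dvd_mul (e ▸ dvd_mul_right _ _) (D.odd_q.add_one).two_dvd
  obtain ⟨K, hK⟩ := Sylow.exists_subgroup_card_pow_prime 2 h1
  obtain ⟨η, hη⟩ := IsCyclic.exists_generator (α := K)
  have ho : orderOf ((η : D.H) : G) = 2 ^ (k + 1) := by
    rw [Subgroup.orderOf_coe, Subgroup.orderOf_coe, orderOf_eq_card_of_forall_mem_zpowers hη, hK]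
  refine ⟨_, (η : D.H).2, k, (D.eq_z (D.H.pow_mem (η : D.H).2 _) ?_).resolve_left fun h => ?_,
    fun h => ?_⟩
  · rw [← pow_add, ← two_mul, ← pow_succ', ← ho, pow_orderOf_eq_one]
  · have := orderOf_dvd_of_pow_eq_one h
    rw [ho, Nat.pow_dvd_pow_iff_le_right (by omega)] at this
    omega
  · rw [e, pow_succ, Nat.mul_dvd_mul_iff_left (by positivity)] at h
    exact (Nat.not_even_iff_odd.2 hm) (even_iff_two_dvd.2 h)

theorem Coord.nonempty_uData {D : OData G Ω} {K : Type} [Field K] [Finite K] (C : D.Coord K) :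
    Nonempty (UData G Ω K) := by
  classical
  obtain ⟨η, hη, k, h1, h2⟩ := D.exists_eta
  have hW : C.φ (slW K) • D.a = D.b := C.W_a
  have hU : ∀ s, C.φ (slU s) = C.x s := C.φ_U
  have hB : ∀ m : SL(2, K), m 1 0 = 0 → C.φ m • D.a = D.a := fun m hm => by
    rw [← C.e_inf, (C.rep_φ m).2, sl_smul_infty, if_pos hm]
  exact ⟨{
    φ := C.φ
    a := D.a
    P := D.U
    η := η
    k := k
    odd := C.card_K ▸ D.odd_q
    card_P := by rw [C.card_K, D.card_U']
    P_fix := D.U_fix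
    norm := D.norm
    ne := hW ▸ D.ne
    trans := hW ▸ D.trans
    free := hW ▸ D.free
    borel := hB
    X_mem := fun s => hU s ▸ C.x_mem s
    X_comm := fun s x hx => hU s ▸ D.X_central (C.x_mem_X s) hx
    cent_z := fun x hx h => by
      rw [C.φ_neg_one] at h
      obtain ⟨s, hs⟩ := C.exists_x (D.mem_X.2 ⟨hx, h.symm⟩)
      exact ⟨s, hs.trans (hU s).symm⟩
    two := fun g ha hb => by
      rw [hW] at hb
      rw [C.φ_neg_one]
      exact D.H_comm ⟨ha, hb⟩ D.z_mem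
    semireg := fun m b h => C.φ_neg_one ▸ C.semireg m b h
    η_fix := hW ▸ hη
    η_comm := fun m h1 h2 => D.H_comm hη ⟨hB m h2, by
      have hd := sl2_det m
      have h4 : m 1 1 ≠ 0 := fun e => by simp [h2, e] at hd
      change C.φ m • D.b = D.b
      rw [← C.e_zero, (C.rep_φ m).2, sl_smul_coe]
      simp [h1, h4]⟩
    η_pow := h1.trans C.φ_neg_one.symm
    η_big := C.card_K ▸ h2 }⟩

/-- O'Nan's theorem. -/
theorem nonempty_equiv [IsSimpleGroup G] {E : Type*} [Field E] [Fintype E]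
    (hE : Fintype.card E = D.q ^ 2) : Nonempty (G ≃* PSU 3 E D.q) := by
  have := D.finite
  obtain ⟨K, _, _, ⟨C⟩⟩ := D.exists_coord
  obtain ⟨U⟩ := C.nonempty_uData
  rw [← C.card_K] at hE ⊢
  exact U.nonempty_equiv hE

end OData

end Cfsg.Lib.U3
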