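import Cfsg.Agent.U3.OddInv
import Cfsg.Agent.Perm.Witt

/-!
# The action of the centraliser of `z` on its fixed points is sharply triply transitive modulo the
kernel `Y`
-/

set_option autoImplicit false

open MulAction

namespace Cfsg.Lib.U3

theorem onan_numeric2 {p n k : ℕ} (hp : 3 ≤ p) (hk : k < n * 3) (hnk : n ≤ k)
    (h : p ^ k + 1 ∣ (p ^ n) ^ 3 + 1) : k = n := by
  obtain ⟨e, he⟩ : ∃ e, n * 3 = k + e := ⟨n * 3 - k, by omega⟩
  have hp1 : 1 < p := by omega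
  rw [← pow_mul, he] at h
  have d0 : ((p : ℤ) ^ k + 1) ∣ (p : ℤ) ^ (k + e) + 1 := by exact_mod_cast h
  have d1 : ((p : ℤ) ^ k + 1) ∣ (p : ℤ) ^ e - 1 := by
    have : (p : ℤ) ^ e - 1 = (p ^ k + 1) * p ^ e - (p ^ (k + e) + 1) := by ring
    rw [this]
    exact (dvd_mul_right _ _).sub d0
  have hke : k < e := by
    by_contra hc
    have a1 : 1 < p ^ e := Nat.one_lt_pow (by omega) hp1
    have a2 : p ^ e ≤ p ^ k := Nat.pow_le_pow_right (by omega) (by omega)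
    have a3 := Int.le_of_dvd (by
      have : (1 : ℤ) < (p : ℤ) ^ e := by exact_mod_cast a1
      omega) d1
    have : ((p : ℤ) ^ e) ≤ (p : ℤ) ^ k := by exact_mod_cast a2
    omega
  obtain ⟨f, rfl⟩ : ∃ f, e = k + f := ⟨e - k, by omega⟩
  have d2 : ((p : ℤ) ^ k + 1) ∣ (p : ℤ) ^ f + 1 := by
    have : (p : ℤ) ^ f + 1 = (p ^ k + 1) * p ^ f - (p ^ (k + f) - 1) := by ring
    rw [this]
    exact (dvd_mul_right _ _).sub d1
  have hkf : k ≤ f := by
    have a3 := Int.le_of_dvd (by positivity) d2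
    have : p ^ k ≤ p ^ f := by
      have : ((p : ℤ) ^ k) ≤ (p : ℤ) ^ f := by omega
      exact_mod_cast this
    exact (Nat.pow_le_pow_iff_right hp1).1 this
  omega

namespace OData

variable {G Ω : Type*} [Group G] [MulAction G Ω] (D : OData G Ω) [Finite G]

theorem z_mem_of_even {K : Subgroup G} (hK : K ≤ D.H) (h : 2 ∣ Nat.card K) : D.z ∈ K := by
  obtain ⟨w, hw⟩ := exists_prime_orderOf_dvd_card' 2 h
  rw [← Subgroup.orderOf_coe] at hw
  rcases D.eq_z (hK w.2) (by rw [← pow_two, ← hw, pow_orderOf_eq_one]) with e | e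
  · simp [e] at hw
  · exact e ▸ w.2

theorem card_rho_range {t : G} (ht : t ∈ D.T) :
    Nat.card (D.rho ht.2 (D.T_b ht)).range = D.q - 1 := by
  have := D.finite
  rcases (D.card_T_dichotomy ht).2 with h | h
  · rw [← h, D.card_X_T.2]
  exfalso
  have h1 := D.card_H'
  rw [← D.card_rho ht.2 (D.T_b ht), D.sq_sub_one, ← D.card_X_T.2, h] at h1
  set H₀ := D.H ⊓ Subgroup.centralizer {t}
  have h2 : Nat.gcd 3 (D.q + 1) * Nat.card H₀ = 2 * (D.q + 1) :=
    Nat.eq_of_mul_eq_mul_right (Nat.card_pos (α := (D.rho ht.2 (D.T_b ht)).range)) (by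
      rw [mul_assoc, h1]; ring)
  obtain ⟨e, m, hm, hq⟩ := Nat.exists_eq_two_pow_mul_odd (n := D.q + 1) (by omega)
  have h3 : 2 ^ (e + 1) ∣ Nat.card H₀ := by
    refine Nat.Coprime.dvd_of_dvd_mul_left
      (Nat.Coprime.pow_left _ ((Nat.coprime_two_left).2 D.odd_gcd)) ?_
    rw [h2, hq]
    exact Dvd.intro m (by ring)
  obtain ⟨K, hK⟩ := Sylow.exists_subgroup_card_pow_prime 2 h3
  have h4 := Perm.card_dvd_ncard_of_free (H := K) (fixedBy Ω t) (fun k c hc => by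
      change t • ((k : H₀) : G) • c = ((k : H₀) : G) • c
      rw [← mul_smul, ← Subgroup.mem_centralizer_singleton_iff.1 (k : H₀).2.2, mul_smul,
        show t • c = c from hc])
    (fun k c hc e => by
      by_contra hk
      have hz : D.z ∈ Subgroup.zpowers ((k : H₀) : G) := by
        refine D.z_mem_of_even (Subgroup.zpowers_le.2 (k : H₀).2.1) ?_
        rw [Nat.card_zpowers, Subgroup.orderOf_coe, Subgroup.orderOf_coe]
        have := orderOf_dvd_natCard k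
        rw [hK] at this
        obtain ⟨j, -, hj⟩ := (Nat.dvd_prime_pow Nat.prime_two).1 this
        rcases j with _ | j
        · exact (hk (orderOf_eq_one_iff.1 hj)).elim
        · rw [hj]; exact Dvd.intro_left _ rfl
      have hzc : D.z • c = c :=
        (Subgroup.zpowers_le.2 (show ((k : H₀) : G) ∈ stabilizer G c from e)) hz
      have := ht.2
      rcases D.eq_z_of_comm (D.T_sq ht) (D.swap_comm_z ht.2 (D.T_b ht)) hzc hc with h | h
      · rw [h, one_smul] at this; exact D.ne this.symm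
      · rw [h, D.z_mem.1] at this; exact D.ne this.symm)
  obtain ⟨g, hg⟩ := isConj_iff.1 ht.1
  rw [hK, ← hg, Perm.ncard_fixedBy_conj, D.ncard_fix_z, hq, pow_succ,
    Nat.mul_dvd_mul_iff_left (by positivity)] at h4
  exact (Nat.not_even_iff_odd.2 hm) (even_iff_two_dvd.2 h4)

theorem card_H_eq {t : G} (ht : t ∈ D.T) :
    Nat.card D.H = Nat.card ↥(D.H ⊓ Subgroup.centralizer {t}) * (D.q - 1) := by
  rw [← D.card_rho ht.2 (D.T_b ht), D.card_rho_range ht]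

theorem exists_z_eq {s : G} (h1 : s • D.a = D.b) (h2 : s • D.b = D.a) :
    ∃ k ∈ D.H, D.z = k * (s * k * s⁻¹)⁻¹ := by
  obtain ⟨t, ht⟩ := D.T_nonempty
  obtain ⟨k, hk⟩ := D.z_mem_of_even (D.rho_le ht.2 (D.T_b ht)) (by
    rw [D.card_rho_range ht]
    exact (Nat.Odd.sub_odd D.odd_q odd_one).two_dvd)
  refine ⟨k, k.2, ?_⟩
  have h3 : t⁻¹ * s ∈ D.H :=
    ⟨show _ • _ = _ by rw [mul_smul, h1, inv_smul_eq_iff, ht.2],
      show _ • _ = _ by rw [mul_smul, h2, inv_smul_eq_iff, D.T_b ht]⟩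
  have := D.H_comm h3 k.2
  rw [← hk, rho_apply]
  congr 2
  calc t * k * t⁻¹ = t * (k * (t⁻¹ * s)) * s⁻¹ := by group
    _ = _ := by rw [← this]; group

theorem ncard_third : (fixedBy Ω D.z \ {D.a, D.b}).ncard = D.q - 1 := by
  have := D.finite
  rw [Set.ncard_sdiff (by
    rintro c (rfl | rfl)
    exacts [D.z_mem.1, D.z_mem.2]), D.ncard_fix_z, Set.ncard_pair D.ne.symm]
  omega

theorem exists_third : ∃ c, D.z • c = c ∧ c ≠ D.a ∧ c ≠ D.b := by
  have h := D.ncard_third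
  have := D.three_le_q
  obtain ⟨c, h1, h2⟩ := Set.nonempty_of_ncard_ne_zero (s := fixedBy Ω D.z \ {D.a, D.b}) (by omega)
  simp only [Set.mem_insert_iff, Set.mem_singleton_iff, not_or] at h2
  exact ⟨c, h1, h2⟩

omit [Finite G] in
theorem smul_ne {h : G} (hh : h ∈ D.H) {c : Ω} (h1 : c ≠ D.a) (h2 : c ≠ D.b) :
    h • c ≠ D.a ∧ h • c ≠ D.b :=
  ⟨fun e => h1 (MulAction.injective h (e.trans hh.1.symm)),
    fun e => h2 (MulAction.injective h (e.trans hh.2.symm))⟩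

/-- The pointwise stabiliser of the fixed points of `z`. -/
def Y : Subgroup G where
  carrier := {y | ∀ c : Ω, D.z • c = c → y • c = c}
  one_mem' := fun c _ => one_smul _ c
  mul_mem' := fun hx hy c hc => by rw [mul_smul, hy c hc, hx c hc]
  inv_mem' := fun hx c hc => inv_smul_eq_iff.2 (hx c hc).symm

theorem Y_le : D.Y ≤ D.H := fun _ hy => ⟨hy _ D.z_mem.1, hy _ D.z_mem.2⟩

theorem mem_Y_of_third {h : G} (hh : h ∈ D.H) {c : Ω} (hc : D.z • c = c) (h1 : c ≠ D.a)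
    (h2 : c ≠ D.b) (hhc : h • c = c) : h ∈ D.Y := by
  have := D.finite
  obtain ⟨t, ht⟩ := D.T_nonempty
  set R := (D.rho ht.2 (D.T_b ht)).range
  have hS : ∀ s ∈ ({h, D.z} : Set G), s ∈ D.H := by
    rintro s (rfl | rfl)
    exacts [hh, D.z_mem]
  have e1 := D.ncard_fix {h, D.z} hS
  set F := {c : Ω | ∀ s ∈ ({h, D.z} : Set G), s • c = c}
  set W := D.U ⊓ Subgroup.centralizer ({h, D.z} : Set G)
  have hW : Nat.card W ∣ D.q := by
    rw [← D.card_X]
    exact Subgroup.card_dvd_of_le (inf_le_inf_left _ (Subgroup.centralizer_le (by simp)))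
  have e2 := Perm.card_eq_ncard_mul_card_inf_stabilizer R c {x | ∃ g ∈ R, g • c = x}
    fun _ => Iff.rfl
  have e3 : Nat.card ↥(R ⊓ stabilizer G c) ≤ 2 := by
    rw [← D.orderOf_z, ← Nat.card_zpowers]
    refine Subgroup.card_le_of_le fun r hr => ?_
    have hrH := D.rho_le _ _ hr.1
    have e := D.comm_of_third hrH h1 h2 hr.2 (D.swap_mem_normalizer ht.2 (D.T_b ht) hrH)
    have e' := D.conj_rho _ _ hr.1
    rw [e, mul_inv_cancel_right] at e'
    rcases D.eq_z hrH (by nth_rw 1 [e']; group) with rfl | rfl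
    exacts [Subgroup.one_mem _, Subgroup.mem_zpowers _]
  have e4 : {x | ∃ g ∈ R, g • c = x}.ncard ≤ (F \ {D.a, D.b}).ncard := by
    refine Set.ncard_le_ncard ?_
    rintro _ ⟨g, hg, rfl⟩
    have hgH := D.rho_le _ _ hg
    refine ⟨fun s hs => ?_, ?_⟩
    · rw [← mul_smul, D.H_comm (hS s hs) hgH, mul_smul]
      rcases hs with rfl | rfl
      · rw [hhc]
      · rw [hc]
    · rintro (e | e)
      exacts [(D.smul_ne hgH h1 h2).1 e, (D.smul_ne hgH h1 h2).2 e]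
  rw [Set.ncard_sdiff (by
    rintro c (rfl | rfl) s hs
    exacts [(hS s hs).1, (hS s hs).2]), e1, Set.ncard_pair D.ne.symm] at e4
  rw [D.card_rho_range ht] at e2
  have e5 : Nat.card W = D.q := by
    obtain ⟨j, hj⟩ := hW
    have := D.three_le_q
    have e6 := Nat.mul_le_mul e4 e3
    rw [← e2] at e6
    rcases j with _ | _ | j
    · omega
    · omega
    · have : Nat.card W * 2 ≤ Nat.card W * (j + 1 + 1) := Nat.mul_le_mul_left _ (by omega)
      omega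
  have e6 : F = fixedBy Ω D.z :=
    Set.eq_of_subset_of_ncard_le (fun c hc => hc _ (by simp)) (by rw [e1, e5, D.ncard_fix_z])
  intro c' hc'
  have : c' ∈ F := e6 ▸ hc'
  exact this h (by simp)

theorem Y_comm {g y : G} (hg : g * D.z = D.z * g) (hy : y ∈ D.Y) : g * y = y * g := by
  obtain ⟨c, hc, h1, h2⟩ := D.exists_third
  exact D.comm_of_third (D.Y_le hy) h1 h2 (hy c hc) ((D.mem_normalizer_iff (D.Y_le hy)).2
    ⟨hy _ (D.fix_of_comm hg D.z_mem.1), hy _ (D.fix_of_comm hg D.z_mem.2)⟩)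

theorem orbit_H {t : G} (ht : t ∈ D.T) {c : Ω} (hc : D.z • c = c) (h1 : c ≠ D.a) (h2 : c ≠ D.b) :
    {x | ∃ g ∈ D.H, g • c = x} = fixedBy Ω D.z \ {D.a, D.b} ∧
      D.Y = D.H ⊓ Subgroup.centralizer {t} := by
  have := D.finite
  have e1 := Perm.card_eq_ncard_mul_card_inf_stabilizer D.H c {x | ∃ g ∈ D.H, g • c = x}
    fun _ => Iff.rfl
  have e2 : D.H ⊓ stabilizer G c = D.Y :=
    le_antisymm (fun h hh => D.mem_Y_of_third hh.1 hc h1 h2 hh.2) fun y hy => ⟨D.Y_le hy, hy c hc⟩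
  have e3 : {x | ∃ g ∈ D.H, g • c = x} ⊆ fixedBy Ω D.z \ {D.a, D.b} := by
    rintro _ ⟨g, hg, rfl⟩
    refine ⟨D.fix_of_comm (D.H_comm hg D.z_mem) hc, ?_⟩
    rintro (e | e)
    exacts [(D.smul_ne hg h1 h2).1 e, (D.smul_ne hg h1 h2).2 e]
  have e4 : D.Y ≤ D.H ⊓ Subgroup.centralizer {t} := fun y hy =>
    ⟨D.Y_le hy, Subgroup.mem_centralizer_singleton_iff.2
      (D.Y_comm (D.swap_comm_z ht.2 (D.T_b ht)) hy).symm⟩
  have e5 := Set.ncard_le_ncard e3
  have e6 := Subgroup.card_le_of_le e4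
  rw [e2, D.card_H_eq ht] at e1
  rw [D.ncard_third] at e5
  have := D.three_le_q
  have hpos : 0 < Nat.card D.Y := Nat.card_pos
  refine ⟨Set.eq_of_subset_of_ncard_le e3 ?_, Subgroup.eq_of_le_of_card_ge e4 ?_⟩
  · rw [D.ncard_third]
    by_contra hlt
    have := Nat.mul_lt_mul_of_lt_of_le (not_le.1 hlt) e6 (by omega)
    rw [← e1, mul_comm] at this
    omega
  · by_contra hlt
    have := Nat.mul_lt_mul_of_le_of_lt e5 (not_le.1 hlt) (by omega)
    rw [← e1, mul_comm] at this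
    omega

theorem trans_third {c c' : Ω} (hc : D.z • c = c) (h1 : c ≠ D.a) (h2 : c ≠ D.b)
    (hc' : D.z • c' = c') (h1' : c' ≠ D.a) (h2' : c' ≠ D.b) : ∃ h ∈ D.H, h • c = c' := by
  obtain ⟨t, ht⟩ := D.T_nonempty
  have : c' ∈ {x | ∃ g ∈ D.H, g • c = x} := by
    rw [(D.orbit_H ht hc h1 h2).1]
    exact ⟨hc', by simp [h1', h2']⟩
  exact this

theorem mem_Y_of_swap {s h : G} (h1 : s • D.a = D.b) (h2 : s • D.b = D.a) (hh : h ∈ D.H)
    (e : s * h = h * s) : h ∈ D.Y := by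
  obtain ⟨t, ht⟩ := D.T_nonempty
  obtain ⟨c, hc, c1, c2⟩ := D.exists_third
  rw [(D.orbit_H ht hc c1 c2).2]
  refine ⟨hh, Subgroup.mem_centralizer_singleton_iff.2 ?_⟩
  have h3 : s⁻¹ * t ∈ D.H :=
    ⟨show _ • _ = _ by rw [mul_smul, ht.2, inv_smul_eq_iff, h1],
      show _ • _ = _ by rw [mul_smul, D.T_b ht, inv_smul_eq_iff, h2]⟩
  calc h * t = h * s * (s⁻¹ * t) := by group
    _ = s * (h * (s⁻¹ * t)) := by rw [← e]; group
    _ = _ := by rw [D.H_comm hh h3]; group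

theorem mem_Y_of_fix {h : G} (hh : h ∈ D.H) {c : Ω} (h1 : c ≠ D.a) (h2 : c ≠ D.b)
    (hc : h • c = c) : h ∈ D.Y := by
  obtain ⟨t, ht⟩ := D.T_nonempty
  exact D.mem_Y_of_swap ht.2 (D.T_b ht) hh
    (D.comm_of_third hh h1 h2 hc (D.swap_mem_normalizer ht.2 (D.T_b ht) hh))

theorem fix_z_iff {x : G} (hx : x ∈ D.U) : D.z • x • D.b = x • D.b ↔ x ∈ D.X := by
  rw [D.fix_iff D.z_mem hx, mem_X, eq_comm]
  exact ⟨fun h => ⟨hx, h⟩, fun h => h.2⟩

theorem fix_of_mem_Y {y : G} (hy : y ∈ D.Y) (hy1 : y ≠ 1) {c : Ω} (hc : y • c = c) :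
    D.z • c = c := by
  have := D.finite
  have hyH := D.Y_le hy
  obtain ⟨k, hk, e⟩ := D.exists_card_cent {y}
  have hsub : fixedBy Ω D.z ⊆ fixedBy Ω y := fun c hc => hy c hc
  have h1 := Set.ncard_le_ncard hsub
  have h2 := D.card_cent_succ_dvd hyH
  have h3 := D.card_cent_ne hyH hy1
  rw [D.ncard_fix_z, D.ncard_fixedBy hyH, e] at h1
  rw [e] at h2 h3
  have h4 : k = D.n := onan_numeric2 D.three_le_p
    (lt_of_le_of_ne hk fun h => h3 (by rw [h, pow_mul]; rfl))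
    ((Nat.pow_le_pow_iff_right D.hp.one_lt).1 (Nat.le_of_succ_le_succ h1)) h2
  have h5 := Set.eq_of_subset_of_ncard_le hsub
    (by rw [D.ncard_fix_z, D.ncard_fixedBy hyH, e, h4]; rfl)
  have : c ∈ fixedBy Ω D.z := h5 ▸ hc
  exact this

theorem trans_X {x x' : G} (hx : x ∈ D.X) (h1 : x ≠ 1) (hx' : x' ∈ D.X) (h1' : x' ≠ 1) :
    ∃ h ∈ D.H, h * x * h⁻¹ = x' := by
  obtain ⟨h, hh, e⟩ := D.trans_third ((D.fix_z_iff hx.1).2 hx) (D.smul_b_ne (D.U_fix x hx.1))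
    (fun e => h1 (D.free x hx.1 e)) ((D.fix_z_iff hx'.1).2 hx') (D.smul_b_ne (D.U_fix x' hx'.1))
    (fun e => h1' (D.free x' hx'.1 e))
  rw [D.smul_smul_b hh] at e
  exact ⟨h, hh, D.U_inj (D.norm h hh.1 x hx.1) hx'.1 e⟩

theorem conj_mem_X {h x : G} (hh : h ∈ D.H) (hx : x ∈ D.X) : h * x * h⁻¹ ∈ D.X := by
  rw [← D.fix_z_iff (D.norm h hh.1 x hx.1), ← D.smul_smul_b hh]
  exact D.fix_of_comm (D.H_comm hh D.z_mem) ((D.fix_z_iff hx.1).2 hx)

theorem comm_of_mem_X {V : Subgroup G} (hV : ∀ h ∈ D.H, ∀ v ∈ V, h * v * h⁻¹ ∈ V) {x : G}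
    (hx : x ∈ D.X) (h1 : x ≠ 1) (hc : ∀ v ∈ V, x * v = v * x) {x' : G} (hx' : x' ∈ D.X) :
    ∀ v ∈ V, x' * v = v * x' := by
  intro v hv
  by_cases h1' : x' = 1
  · simp [h1']
  obtain ⟨h, hh, rfl⟩ := D.trans_X hx h1 hx' h1'
  have := hc _ (hV _ (D.H.inv_mem hh) v hv)
  calc h * x * h⁻¹ * v = h * (x * (h⁻¹ * v * h⁻¹⁻¹)) * h⁻¹ := by group
    _ = _ := by rw [this]; group

omit [Finite G] in
theorem exists_central {p : ℕ} (hp : p.Prime) {V : Subgroup G} [Finite V] (hV : IsPGroup p V)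
    (h1 : 1 < Nat.card V) : ∃ x ∈ V, x ≠ 1 ∧ ∀ v ∈ V, x * v = v * x := by
  have := Fact.mk hp
  have := Finite.one_lt_card_iff_nontrivial.1 h1
  obtain ⟨⟨x, hx⟩, h⟩ := @exists_ne _ (IsPGroup.center_nontrivial hV) 1
  exact ⟨x, x.2, fun e => h (Subtype.ext (Subtype.ext e)), fun v hv =>
    (congrArg Subtype.val (Subgroup.mem_center_iff.1 hx ⟨v, hv⟩)).symm⟩

theorem X_comm_X {x x' : G} (hx : x ∈ D.X) (hx' : x' ∈ D.X) : x * x' = x' * x := by
  obtain ⟨x₀, h0, h1, h2⟩ := exists_central D.hp (V := D.X)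
    (D.isPGroup_U.to_le inf_le_left) (by rw [D.card_X]; have := D.three_le_q; omega)
  exact D.comm_of_mem_X (fun h hh v hv => D.conj_mem_X hh hv) h0 h1 h2 hx x' hx'

theorem X_central {x u : G} (hx : x ∈ D.X) (hu : u ∈ D.U) : x * u = u * x := by
  have := D.finite
  have hq := D.three_le_q
  let Z : Subgroup G := D.U ⊓ Subgroup.centralizer D.U
  have memZ : ∀ v, v ∈ Z ↔ v ∈ D.U ∧ ∀ u ∈ D.U, u * v = v * u := fun v => Iff.rfl
  by_cases hc : ∃ v ∈ Z, v ∈ D.X ∧ v ≠ 1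
  · obtain ⟨v, h1, h2, h3⟩ := hc
    exact D.comm_of_mem_X (fun h hh v hv => D.norm h hh.1 v hv) h2 h3
      (fun u hu => (h1.2 u hu).symm) hx u hu
  exfalso
  push Not at hc
  have hZ1 : 1 < Nat.card Z := by
    obtain ⟨v, h0, h1, h2⟩ := exists_central D.hp D.isPGroup_U
      (by rw [D.card_U']; exact Nat.one_lt_pow (by omega) (by omega))
    exact Finite.one_lt_card_iff_nontrivial.2
      ⟨⟨v, h0, fun u hu => (h2 u hu).symm⟩, 1, fun e => h1 (congrArg Subtype.val e)⟩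
  have h1 := Perm.card_dvd_ncard_of_free (H := D.H)
    ((fun v : G => v • D.b) '' ((Z : Set G) \ {1})) (by
      rintro h _ ⟨v, ⟨hv, hv1⟩, rfl⟩
      refine ⟨h * v * (h : G)⁻¹, ⟨⟨D.norm h h.2.1 v hv.1, fun u hu => ?_⟩,
        fun e => hv1 (Perm.conj_eq_one_iff'.1 e)⟩, (D.smul_smul_b h.2).symm⟩
      have := hv.2 _ (D.norm _ (D.H.inv_mem h.2).1 u hu)
      calc u * (h * v * (h : G)⁻¹) = h * ((h : G)⁻¹ * u * (h : G)⁻¹⁻¹ * v) * (h : G)⁻¹ := by group
        _ = _ := by rw [this]; group)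
    (by
      rintro h _ ⟨v, ⟨hv, hv1⟩, rfl⟩ e
      by_contra hh
      have h1 := D.mem_Y_of_fix h.2 (D.smul_b_ne (D.U_fix v hv.1))
        (fun e => hv1 (D.free v hv.1 e)) e
      exact hv1 (hc v hv ((D.fix_z_iff hv.1).1
        (D.fix_of_mem_Y h1 (fun e => hh (Subtype.ext e)) e))))
  rw [Set.InjOn.ncard_image fun x hx y hy => D.U_inj hx.1.1 hy.1.1,
    Set.ncard_sdiff_singleton_of_mem Z.one_mem, ← Nat.card_coe_set_eq] at h1
  change _ ∣ Nat.card Z - 1 at h1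
  let f : Z × D.X → D.U := fun w => ⟨w.1 * w.2, D.U.mul_mem w.1.2.1 w.2.2.1⟩
  have hf : Function.Injective f := by
    rintro ⟨v, x⟩ ⟨v', x'⟩ e
    have e' : (v : G) * x = v' * x' := congrArg Subtype.val e
    have e2 : (v' : G)⁻¹ * v = x' * (x : G)⁻¹ := by
      rw [inv_mul_eq_iff_eq_mul, ← mul_assoc, ← e', mul_inv_cancel_right]
    have e3 := hc _ (Z.mul_mem (Z.inv_mem v'.2) v.2) (e2 ▸ D.X.mul_mem x'.2 (D.X.inv_mem x.2))
    have e4 : v' = v := Subtype.ext (inv_mul_eq_one.1 e3)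
    subst e4
    exact Prod.ext rfl (Subtype.ext (mul_left_cancel e'))
  have h2 := Nat.card_le_card_of_injective f hf
  obtain ⟨e, -, he⟩ := D.exists_card_cent D.U
  change Nat.card Z = _ at he
  rw [Nat.card_prod, D.card_X, D.card_U', he, pow_succ] at h2
  have h3 : D.p ^ e ≤ D.p ^ (D.n * 2) := by
    rw [pow_mul]
    exact Nat.le_of_mul_le_mul_right h2 (by omega)
  rcases ((Nat.pow_le_pow_iff_right D.hp.one_lt).1 h3).eq_or_lt with h | h
  · have hb := (hf.bijective_of_nat_card_le (by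
      rw [Nat.card_prod, D.card_X, D.card_U', he, h, pow_mul, pow_succ]; rfl)).2
    obtain ⟨c, c0, c1, c2⟩ := D.exists_third
    obtain ⟨x, hx, rfl⟩ := D.trans c c1
    have hxX := (D.fix_z_iff hx).1 c0
    refine c2 ?_
    rw [hc x ⟨hx, fun u hu => ?_⟩ hxX, one_smul]
    obtain ⟨⟨v, x'⟩, e⟩ := hb ⟨u, hu⟩
    have e' : (v : G) * x' = u := congrArg Subtype.val e
    rw [← e', mul_assoc, D.X_comm_X x'.2 hxX, ← mul_assoc, ← v.2.2 x hx, mul_assoc]
  · have h4 : D.p ^ e * D.p ≤ D.q ^ 2 := by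
      rw [← pow_succ, q, ← pow_mul]
      exact Nat.pow_le_pow_right D.hp.pos h
    have h5 := Nat.le_of_dvd (by omega) h1
    have h6 := Nat.mul_le_mul D.gcd_le h5
    rw [D.card_H', he] at h6
    have h7 : D.p ^ e * 3 ≤ D.p ^ e * D.p := Nat.mul_le_mul_left _ D.three_le_p
    omega

end OData

end Cfsg.Lib.U3
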