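import Cfsg.Agent.U3.OddData

/-!
# The involution of the two-point stabiliser and the number of its fixed points
-/

set_option autoImplicit false

open MulAction

namespace Cfsg.Lib.U3

theorem onan_numeric {p n k i : ℕ} (hp : 3 ≤ p) (hn : 1 ≤ n) (hk : k < n * 3)
    (h : i * ((p ^ k + 1) * p ^ k) = (p ^ n) ^ 3 - p ^ k) (hi : i ∣ (p ^ n) ^ 2 - 1) :
    k = n ∧ i = p ^ n - 1 := by
  obtain ⟨e, he⟩ : ∃ e, n * 3 = k + e := ⟨n * 3 - k, by omega⟩
  have hp1 : 1 < p := by omega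
  have pos : ∀ j, 0 < p ^ j := fun j => Nat.pow_pos (by omega)
  have hq : 3 ≤ p ^ n := hp.trans (Nat.le_self_pow (by omega) _)
  have h1 : i * (p ^ k + 1) + 1 = p ^ e := by
    have h2 : (p ^ n) ^ 3 = p ^ e * p ^ k := by rw [← pow_mul, he, ← pow_add, add_comm]
    rw [h2, ← mul_assoc, ← Nat.sub_one_mul] at h
    have := Nat.eq_of_mul_eq_mul_right (pos k) h
    have := pos e
    omega
  have hq2 : 9 ≤ (p ^ n) ^ 2 := by nlinarith
  have hile : i ≤ (p ^ n) ^ 2 - 1 := Nat.le_of_dvd (by omega) hi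
  have he0 : 0 < e := by omega
  have hk0 : 0 < k := by
    rcases Nat.eq_zero_or_pos k with rfl | h0
    · exfalso
      have : p ^ e = (p ^ n) ^ 2 * p ^ n := by rw [← pow_succ, ← pow_mul, he, zero_add]
      rw [this, pow_zero] at h1
      have : (p ^ n) ^ 2 * 3 ≤ (p ^ n) ^ 2 * p ^ n := Nat.mul_le_mul_left _ hq
      omega
    · exact h0
  have m1 : (p ^ n) ^ 2 ≡ 1 [MOD i] := ((Nat.modEq_iff_dvd' (by omega)).2 hi).symm
  have m2 : p ^ e ≡ 1 [MOD i] := by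
    rw [← h1]
    exact ((Nat.modEq_iff_dvd' (by omega)).2 (by simp)).symm
  have m3 : (p ^ k) ^ 2 ≡ 1 [MOD i] := by
    have a1 : ((p ^ n) ^ 2) ^ 3 = (p ^ e) ^ 2 * (p ^ k) ^ 2 := by
      rw [← mul_pow, ← pow_add, ← pow_mul, ← pow_mul, ← pow_mul, add_comm e, ← he]
      congr 1; ring
    have a2 := m1.pow 3
    rw [a1, one_pow] at a2
    have a3 := (m2.pow 2).mul_right ((p ^ k) ^ 2)
    rw [one_pow, one_mul] at a3
    exact a3.symm.trans a2
  have hm : 3 ≤ p ^ k := hp.trans (Nat.le_self_pow (by omega) _)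
  have hm2 : 9 ≤ (p ^ k) ^ 2 := by nlinarith
  have hile2 : i ≤ (p ^ k) ^ 2 - 1 :=
    Nat.le_of_dvd (by omega) ((Nat.modEq_iff_dvd' (by omega)).1 m3.symm)
  have he3 : e ≤ 3 * k := by
    by_contra hc
    have a1 : p ^ (3 * k + 1) ≤ p ^ e := Nat.pow_le_pow_right (by omega) (by omega)
    have a2 : p ^ (3 * k + 1) = (p ^ k) ^ 2 * p ^ k * p := by ring
    have a3 : i * (p ^ k + 1) ≤ ((p ^ k) ^ 2 - 1) * (p ^ k + 1) := Nat.mul_le_mul_right _ hile2
    obtain ⟨M, hM⟩ : ∃ M, (p ^ k) ^ 2 = M + 1 := ⟨(p ^ k) ^ 2 - 1, by omega⟩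
    rw [hM] at a2 a3
    rw [Nat.add_sub_cancel] at a3
    have a4 : (M + 1) * p ^ k * 3 ≤ (M + 1) * p ^ k * p := Nat.mul_le_mul_left _ hp
    nlinarith
  have d1 : ((p : ℤ) ^ k + 1) ∣ (p : ℤ) ^ e - 1 := by
    have : ((p : ℤ) ^ e) = i * (p ^ k + 1) + 1 := by exact_mod_cast h1.symm
    rw [this]; simp
  have small : ∀ j ≤ k, ((p : ℤ) ^ k + 1) ∣ (p : ℤ) ^ j - 1 → j = 0 := by
    intro j hj hd
    by_contra h0
    have a1 : 1 < p ^ j := Nat.one_lt_pow h0 hp1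
    have a2 : p ^ j ≤ p ^ k := Nat.pow_le_pow_right (by omega) hj
    have a3 := Int.le_of_dvd (by
      have : (1 : ℤ) < (p : ℤ) ^ j := by exact_mod_cast a1
      omega) hd
    have : ((p : ℤ) ^ j) ≤ (p : ℤ) ^ k := by exact_mod_cast a2
    omega
  have hke : k < e := by
    by_contra hc
    have := small e (by omega) d1
    omega
  obtain ⟨f, rfl⟩ : ∃ f, e = k + f := ⟨e - k, by omega⟩
  have d2 : ((p : ℤ) ^ k + 1) ∣ (p : ℤ) ^ f + 1 := by
    have : (p : ℤ) ^ f + 1 = (p ^ k + 1) * p ^ f - (p ^ (k + f) - 1) := by ring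
    rw [this]
    exact (dvd_mul_right _ _).sub d1
  have hkf : k ≤ f := by
    have a3 := Int.le_of_dvd (by positivity) d2
    have : p ^ k ≤ p ^ f := by
      have : ((p : ℤ) ^ k) ≤ (p : ℤ) ^ f := by omega
      exact_mod_cast this
    exact (Nat.pow_le_pow_iff_right hp1).1 this
  obtain ⟨j, rfl⟩ : ∃ j, f = k + j := ⟨f - k, by omega⟩
  have d3 : ((p : ℤ) ^ k + 1) ∣ (p : ℤ) ^ j - 1 := by
    have : (p : ℤ) ^ j - 1 = (p ^ k + 1) * p ^ j - (p ^ (k + j) + 1) := by ring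
    rw [this]
    exact (dvd_mul_right _ _).sub d2
  have hj := small j (by omega) d3
  subst hj
  have hkn : k = n := by omega
  subst hkn
  refine ⟨rfl, ?_⟩
  obtain ⟨M, hM⟩ : ∃ M, p ^ k = M + 1 := ⟨p ^ k - 1, by omega⟩
  rw [add_zero, pow_add, hM] at h1
  rw [hM, Nat.add_sub_cancel]
  exact Nat.eq_of_mul_eq_mul_right (show 0 < M + 1 + 1 by omega) (by nlinarith)

theorem eq_one_or_eq_of_mem_zpowers {G : Type*} [Group G] {z x : G} (hz : z * z = 1)
    (hx : x ∈ Subgroup.zpowers z) : x = 1 ∨ x = z := by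
  obtain ⟨k, rfl⟩ := hx
  have h2 : ∀ j : ℤ, z ^ (2 * j) = 1 := fun j => by rw [zpow_mul, zpow_two, hz, one_zpow]
  rcases Int.even_or_odd' k with ⟨j, rfl | rfl⟩
  · exact Or.inl (h2 j)
  · exact Or.inr (by simp only [zpow_add, h2, one_mul, zpow_one])

namespace OData

variable {G Ω : Type*} [Group G] [MulAction G Ω] (D : OData G Ω)

theorem odd_gcd : Odd (Nat.gcd 3 (D.q + 1)) :=
  Odd.of_dvd_nat (by decide : Odd 3) (Nat.gcd_dvd_left _ _)

theorem gcd_le : Nat.gcd 3 (D.q + 1) ≤ 3 := Nat.gcd_le_left _ (by omega)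

theorem card_H_dvd : Nat.card D.H ∣ D.q ^ 2 - 1 := Dvd.intro_left _ D.card_H'

theorem sq_sub_one : D.q ^ 2 - 1 = (D.q - 1) * (D.q + 1) := by
  have := D.three_le_q
  obtain ⟨M, hM⟩ : ∃ M, D.q = M + 1 := ⟨D.q - 1, by omega⟩
  rw [hM, Nat.add_sub_cancel]
  apply Nat.sub_eq_of_eq_add
  ring

/-- The map `k ↦ k (t k t⁻¹)⁻¹` on `H` for a swap `t`. -/
def rho {t : G} (h1 : t • D.a = D.b) (h2 : t • D.b = D.a) : D.H →* G :=
  MonoidHom.mk' (fun k => k * (t * k * t⁻¹)⁻¹) fun k l => by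
    have e1 := D.H_comm (D.H.inv_mem (D.conj_mem_H h1 h2 k.2))
      (D.H.mul_mem l.2 (D.H.inv_mem (D.conj_mem_H h1 h2 l.2)))
    simp only [Subgroup.coe_mul]
    rw [mul_assoc (k : G) (t * k * t⁻¹)⁻¹, e1]
    group

theorem rho_apply {t : G} (h1 : t • D.a = D.b) (h2 : t • D.b = D.a) (k : D.H) :
    D.rho h1 h2 k = k * (t * k * t⁻¹)⁻¹ := rfl

theorem rho_le {t : G} (h1 : t • D.a = D.b) (h2 : t • D.b = D.a) : (D.rho h1 h2).range ≤ D.H := by
  rintro _ ⟨k, rfl⟩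
  exact D.H.mul_mem k.2 (D.H.inv_mem (D.conj_mem_H h1 h2 k.2))

theorem conj_rho {t : G} (h1 : t • D.a = D.b) (h2 : t • D.b = D.a) {r : G}
    (hr : r ∈ (D.rho h1 h2).range) : t * r * t⁻¹ = r⁻¹ := by
  obtain ⟨k, rfl⟩ := hr
  have h3 : t * t ∈ D.H :=
    ⟨show _ • _ = _ by rw [mul_smul, h1, h2], show _ • _ = _ by rw [mul_smul, h2, h1]⟩
  have e : t * t * (k : G)⁻¹ = (k : G)⁻¹ * (t * t) := D.H_comm h3 (D.H.inv_mem k.2)
  rw [rho_apply]
  calc t * (k * (t * k * t⁻¹)⁻¹) * t⁻¹ = t * k * t⁻¹ * (t * t * (k : G)⁻¹) * (t * t)⁻¹ := by group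
    _ = _ := by rw [e]; group

theorem card_rho {t : G} (h1 : t • D.a = D.b) (h2 : t • D.b = D.a) :
    Nat.card ↥(D.H ⊓ Subgroup.centralizer {t}) * Nat.card (D.rho h1 h2).range = Nat.card D.H := by
  rw [← Subgroup.index_ker, ← (D.rho h1 h2).ker.card_mul_index]
  congr 1
  rw [← Nat.card_congr (Subgroup.subgroupOfEquivOfLe
    (inf_le_left : D.H ⊓ Subgroup.centralizer {t} ≤ D.H)).toEquiv]
  congr 2
  ext k
  rw [Subgroup.mem_subgroupOf, MonoidHom.mem_ker, rho_apply, mul_inv_eq_one, Subgroup.mem_inf,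
    Subgroup.mem_centralizer_singleton_iff, eq_mul_inv_iff_mul_eq]
  exact ⟨fun h => h.2, fun h => ⟨k.2, h⟩⟩

variable [Finite G]

theorem card_dichotomy {t : G} (h1 : t • D.a = D.b) (h2 : t • D.b = D.a) (J : Set G)
    (hJ1 : 1 ∈ J) (hJ : ∀ x ∈ J, x ∈ D.H ∧ t * x * t⁻¹ = x⁻¹)
    (hJR : ∀ x ∈ J, ∀ r ∈ (D.rho h1 h2).range, x * r ∈ J) :
    J.ncard ∣ Nat.card D.H ∧ (J.ncard = Nat.card (D.rho h1 h2).range ∨
      J.ncard = 2 * Nat.card (D.rho h1 h2).range) := by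
  set R := (D.rho h1 h2).range
  let I : Subgroup G :=
    { carrier := {x | x ∈ D.H ∧ t * x * t⁻¹ = x⁻¹}
      one_mem' := ⟨D.H.one_mem, by simp⟩
      mul_mem' := fun {x y} hx hy => ⟨D.H.mul_mem hx.1 hy.1, by
        rw [← conj_mul, hx.2, hy.2, D.H_comm hx.1 hy.1, mul_inv_rev]⟩
      inv_mem' := fun {x} hx => ⟨D.H.inv_mem hx.1, by rw [← conj_inv, hx.2]⟩ }
  have hIH : I ≤ D.H := fun x hx => hx.1
  have hRI : R ≤ I := fun r hr => ⟨D.rho_le h1 h2 hr, D.conj_rho h1 h2 hr⟩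
  by_cases hc : J ⊆ R
  · have : J = R := hc.antisymm fun r hr => by simpa using hJR 1 hJ1 r hr
    rw [this, ← Nat.card_coe_set_eq]
    exact ⟨Subgroup.card_dvd_of_le (D.rho_le h1 h2), Or.inl rfl⟩
  obtain ⟨j, hj, hjR⟩ := Set.not_subset.1 hc
  have : IsCyclic I := Subgroup.isCyclic_of_le hIH
  obtain ⟨g, hg⟩ := IsCyclic.exists_generator (α := I)
  have sq : ∀ e : ℤ, (g : G) ^ (2 * e) ∈ R := fun e => by
    rw [zpow_mul]
    refine R.zpow_mem ⟨⟨g, g.2.1⟩, ?_⟩ e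
    rw [rho_apply, zpow_two]
    change (g : G) * (t * g * t⁻¹)⁻¹ = _
    rw [g.2.2, inv_inv]
  have gen : ∀ x ∈ I, ∃ e : ℤ, x = (g : G) ^ e := fun x hx => by
    obtain ⟨e, he⟩ := hg ⟨x, hx⟩
    exact ⟨e, (congrArg Subtype.val he).symm⟩
  obtain ⟨e, he⟩ := gen j (hJ j hj)
  have split : ∀ x ∈ I, x ∈ R ∨ j⁻¹ * x ∈ R := fun x hx => by
    obtain ⟨f, rfl⟩ := gen x hx
    rcases Int.even_or_odd' e with ⟨e', rfl | rfl⟩
    · exact (hjR (he ▸ sq e')).elim
    rcases Int.even_or_odd' f with ⟨f', rfl | rfl⟩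
    · exact Or.inl (sq f')
    · refine Or.inr ?_
      rw [he, ← zpow_neg, ← zpow_add, show -(2 * e' + 1) + (2 * f' + 1) = 2 * (f' - e') by ring]
      exact sq _
  have hJI : J = I := Set.Subset.antisymm (fun x hx => hJ x hx) fun x hx => by
    rcases split x hx with h | h
    · simpa using hJR 1 hJ1 x h
    · simpa using hJR j hj _ h
  have hU : J = (R : Set G) ∪ (fun r => j * r) '' (R : Set G) := by
    apply Set.Subset.antisymm
    · intro x hx
      rcases split x (hJ x hx) with h | h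
      · exact Or.inl h
      · exact Or.inr ⟨_, h, by simp⟩
    · rintro x (hx | ⟨r, hr, rfl⟩)
      · simpa using hJR 1 hJ1 x hx
      · exact hJR j hj r hr
  refine ⟨?_, Or.inr ?_⟩
  · rw [hJI, ← Nat.card_coe_set_eq]
    exact Subgroup.card_dvd_of_le hIH
  · have hd : Disjoint (R : Set G) ((fun r => j * r) '' (R : Set G)) := by
      rw [Set.disjoint_left]
      rintro _ hx ⟨r, hr, rfl⟩
      exact hjR ((R.mul_mem_cancel_right hr).1 hx)
    rw [hU, Set.ncard_union_eq hd, Set.ncard_image_of_injective _ (mul_right_injective j),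
      ← Nat.card_coe_set_eq, two_mul]
    rfl

theorem exists_z : ∃ z ∈ D.H, orderOf z = 2 := by
  have h : 2 ∣ Nat.card D.H := by
    have h1 : Even (D.q ^ 2 - 1) := Nat.Odd.sub_odd D.odd_q.pow odd_one
    rw [← D.card_H', Nat.even_mul] at h1
    exact (h1.resolve_left (Nat.not_even_iff_odd.2 D.odd_gcd)).two_dvd
  obtain ⟨z, hz⟩ := exists_prime_orderOf_dvd_card' 2 h
  exact ⟨z, z.2, by rw [Subgroup.orderOf_coe, hz]⟩

/-- The involution of `H`. -/
noncomputable def z : G := D.exists_z.choose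

theorem z_mem : D.z ∈ D.H := D.exists_z.choose_spec.1

theorem orderOf_z : orderOf D.z = 2 := D.exists_z.choose_spec.2

theorem z_mul_z : D.z * D.z = 1 := by rw [← pow_two, ← D.orderOf_z, pow_orderOf_eq_one]

theorem z_ne_one : D.z ≠ 1 := fun e => by simpa [e] using D.orderOf_z

theorem z_inv : D.z⁻¹ = D.z := inv_eq_of_mul_eq_one_right D.z_mul_z

theorem z_smul_z (c : Ω) : D.z • D.z • c = c := by rw [← mul_smul, D.z_mul_z, one_smul]

theorem eq_z {h : G} (hh : h ∈ D.H) (h2 : h * h = 1) : h = 1 ∨ h = D.z := by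
  by_cases h1 : h = 1
  · exact Or.inl h1
  refine eq_one_or_eq_of_mem_zpowers D.z_mul_z ?_
  rw [D.zpowers_eq D.z_mem hh (by rw [D.orderOf_z, orderOf_eq_prime (by rw [pow_two, h2]) h1])]
  exact Subgroup.mem_zpowers h

theorem comm_z {g : G} (h1 : D.z • g • D.a = g • D.a) (h2 : D.z • g • D.b = g • D.b) :
    g * D.z = D.z * g := by
  have h3 : g⁻¹ * D.z * g ∈ D.H :=
    ⟨show _ • _ = _ by rw [mul_smul, mul_smul, h1, inv_smul_smul],
      show _ • _ = _ by rw [mul_smul, mul_smul, h2, inv_smul_smul]⟩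
  rcases D.eq_z h3 (by
    calc _ = g⁻¹ * (D.z * D.z) * g := by group
      _ = 1 := by rw [D.z_mul_z]; group) with h | h
  · exact (D.z_ne_one (by
      calc D.z = g * (g⁻¹ * D.z * g) * g⁻¹ := by group
        _ = 1 := by rw [h]; group)).elim
  · calc g * D.z = g * (g⁻¹ * D.z * g) := by rw [h]
      _ = _ := by group

theorem fix_of_comm {g : G} (hg : g * D.z = D.z * g) {c : Ω} (hc : D.z • c = c) :
    D.z • g • c = g • c := by rw [← mul_smul, ← hg, mul_smul, hc]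

theorem normalizer_z :
    Subgroup.normalizer (Subgroup.zpowers D.z : Set G) = Subgroup.centralizer {D.z} := by
  ext g
  rw [D.mem_normalizer_iff D.z_mem, Subgroup.mem_centralizer_singleton_iff]
  exact ⟨fun h => D.comm_z h.1 h.2,
    fun h => ⟨D.fix_of_comm h D.z_mem.1, D.fix_of_comm h D.z_mem.2⟩⟩

theorem swap_comm_z {s : G} (h1 : s • D.a = D.b) (h2 : s • D.b = D.a) : s * D.z = D.z * s :=
  D.comm_z (by rw [h1, D.z_mem.2]) (by rw [h2, D.z_mem.1])

theorem witt_z {c c' : Ω} (hcc : c ≠ c') (hc : D.z • c = c) (hc' : D.z • c' = c') :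
    ∃ g, g * D.z = D.z * g ∧ g • D.a = c ∧ g • D.b = c' := by
  obtain ⟨g, rfl, rfl⟩ := D.two hcc
  exact ⟨g, D.comm_z hc hc', rfl, rfl⟩

theorem move_z (g : G) : (D.move g).z = g * D.z * g⁻¹ := by
  have h : g * D.z * g⁻¹ ∈ (D.move g).H :=
    ⟨show _ • g • D.a = g • D.a by rw [mul_smul, mul_smul, inv_smul_smul, D.z_mem.1],
      show _ • g • D.b = g • D.b by rw [mul_smul, mul_smul, inv_smul_smul, D.z_mem.2]⟩
  rcases (D.move g).eq_z h (by rw [conj_mul, D.z_mul_z]; group) with e | e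
  · exact (D.z_ne_one (Perm.conj_eq_one_iff'.1 e)).elim
  · exact e.symm

omit [Finite G] in
theorem U_odd {x : G} (hx : x ∈ D.U) (h : x * x = 1) : x = 1 := by
  by_contra h1
  have h2 : orderOf x = 2 := orderOf_eq_prime (by rw [pow_two, h]) h1
  have h3 := Subgroup.orderOf_dvd_natCard _ hx
  rw [h2, D.card_U'] at h3
  exact (Nat.not_even_iff_odd.2 (D.odd_q.pow (n := 3))) (even_iff_two_dvd.2 h3)

/-- An involution commuting with `z` and sharing a fixed point with it is `z`. -/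
theorem eq_z_of_comm {w : G} (h2 : w * w = 1) (hw : w * D.z = D.z * w) {c : Ω} (hc : D.z • c = c)
    (hwc : w • c = c) : w = 1 ∨ w = D.z := by
  have key : ∀ w : G, w * w = 1 → w * D.z = D.z * w → w • D.a = D.a → w = 1 ∨ w = D.z := by
    intro w h2 hw ha
    obtain ⟨x, hx, h, hh, rfl⟩ := D.decomp ha
    have h3 : x * (h * x * h⁻¹) * (h * h) = 1 := by rw [← h2]; group
    have h4 : h * h = 1 := D.free _ (by
      rw [← inv_eq_of_mul_eq_one_right h3]
      exact D.U.inv_mem (D.U.mul_mem hx (D.norm h hh.1 x hx))) (D.H.mul_mem hh hh).2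
    rcases D.eq_z hh h4 with rfl | rfl
    · rw [mul_one] at h2 ⊢
      exact Or.inl (D.U_odd hx h2)
    · have h5 : x * D.z = D.z * x := mul_right_cancel (hw.trans (mul_assoc _ _ _).symm)
      have : x = 1 := D.U_odd hx (by
        calc x * x = x * x * (D.z * D.z) := by rw [D.z_mul_z, mul_one]
          _ = x * (x * D.z) * D.z := by group
          _ = 1 := by rw [h5, ← h2]; group)
      exact Or.inr (by rw [this, one_mul])
  obtain ⟨g, hg, rfl⟩ : ∃ g, g * D.z = D.z * g ∧ g • D.a = c := by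
    by_cases h : c = D.b
    · obtain ⟨g, h1, h3, -⟩ := D.witt_z D.ne D.z_mem.2 D.z_mem.1
      exact ⟨g, h1, h ▸ h3⟩
    · obtain ⟨g, h1, h3, -⟩ := D.witt_z h hc D.z_mem.2
      exact ⟨g, h1, h3⟩
  have hg' : Commute g D.z := hg
  rcases key (g⁻¹ * w * g) (by
      calc _ = g⁻¹ * (w * w) * g := by group
        _ = 1 := by rw [h2]; group)
      ((hg'.inv_left.mul_left hw).mul_left hg').eq
      (by rw [mul_smul, mul_smul, hwc, inv_smul_smul]) with h | h
  · left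
    calc w = g * (g⁻¹ * w * g) * g⁻¹ := by group
      _ = 1 := by rw [h]; group
  · right
    calc w = g * (g⁻¹ * w * g) * g⁻¹ := by group
      _ = D.z := by rw [h, hg]; group

/-- The centraliser of `z` in `U`. -/
noncomputable def X : Subgroup G := D.U ⊓ Subgroup.centralizer {D.z}

theorem mem_X {x : G} : x ∈ D.X ↔ x ∈ D.U ∧ x * D.z = D.z * x := by
  rw [X, Subgroup.mem_inf, Subgroup.mem_centralizer_singleton_iff]

/-- The conjugates of `z` that swap `a` and `b`. -/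
def T : Set G := {t | IsConj D.z t ∧ t • D.a = D.b}

theorem T_sq {t : G} (ht : t ∈ D.T) : t * t = 1 := by
  obtain ⟨g, rfl⟩ := isConj_iff.1 ht.1
  rw [conj_mul, D.z_mul_z]; group

theorem T_b {t : G} (ht : t ∈ D.T) : t • D.b = D.a := by
  rw [← ht.2, ← mul_smul, D.T_sq ht, one_smul]

theorem count_T :
    D.T.ncard * ((Nat.card D.X + 1) * Nat.card D.X) = D.q ^ 3 - Nat.card D.X := by
  have := D.finite
  have h1 := ncard_preimage_of_coset (Subgroup.centralizer {D.z}) (fun g => g * D.z * g⁻¹)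
    (fun g g' => by
      rw [Subgroup.mem_centralizer_singleton_iff]
      constructor
      · intro e
        calc g⁻¹ * g' * D.z = g⁻¹ * (g' * D.z * g'⁻¹) * g' := by group
          _ = _ := by rw [← e]; group
      · intro e
        calc g * D.z * g⁻¹ = g * (D.z * (g⁻¹ * g')) * g'⁻¹ := by group
          _ = _ := by rw [← e]; group) D.T fun t ht => isConj_iff.1 ht.1
  have h2 := D.ncard_pairs ((fun c => (c, D.z • c)) '' (fixedBy Ω D.z)ᶜ) (by
    rintro _ ⟨c, hc, rfl⟩ e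
    exact hc e.symm)
  rw [Set.ncard_image_of_injective _ (fun c c' e => congrArg Prod.fst e), Set.ncard_compl,
    D.card_Ω, D.ncard_fixedBy D.z_mem, Nat.add_sub_add_right] at h2
  rw [← D.normalizer_z, D.card_normalizer D.z_mem, ← Set.ncard_inv, ← mul_assoc] at h1
  refine Nat.eq_of_mul_eq_mul_right (Nat.card_pos (α := D.H)) (h1.symm.trans (Eq.trans ?_ h2))
  congr 1
  ext g
  simp only [Set.mem_inv, Set.mem_preimage, T, Set.mem_ofPred_eq, inv_inv, Set.mem_image,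
    Set.mem_compl_iff, mem_fixedBy, Prod.mk.injEq]
  constructor
  · rintro ⟨-, h⟩
    rw [mul_smul, mul_smul, inv_smul_eq_iff] at h
    exact ⟨_, fun e => D.ne (MulAction.injective g (h.symm.trans e)), rfl, h⟩
  · rintro ⟨_, -, rfl, h⟩
    exact ⟨isConj_iff.2 ⟨g⁻¹, by rw [inv_inv]⟩, by rw [mul_smul, mul_smul, h, inv_smul_smul]⟩

theorem card_T_dichotomy {t : G} (ht : t ∈ D.T) :
    D.T.ncard ∣ Nat.card D.H ∧ (D.T.ncard = Nat.card (D.rho ht.2 (D.T_b ht)).range ∨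
      D.T.ncard = 2 * Nat.card (D.rho ht.2 (D.T_b ht)).range) := by
  have e : ((fun x => x * t) ⁻¹' D.T).ncard = D.T.ncard :=
    Set.ncard_preimage_of_injective_subset_range (mul_left_injective t) fun x _ =>
      ⟨x * t⁻¹, by simp⟩
  rw [← e]
  have mem : ∀ x, x * t ∈ D.T → x ∈ D.H := fun x hx =>
    ⟨show _ • _ = _ by rw [← D.T_b ht, ← mul_smul, D.T_b hx, D.T_b ht],
      show _ • _ = _ by rw [← ht.2, ← mul_smul, hx.2, ht.2]⟩
  refine D.card_dichotomy ht.2 (D.T_b ht) _ (by simpa using ht) (fun x hx => ⟨mem x hx, ?_⟩) ?_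
  · have h1 := D.T_sq hx
    rw [inv_eq_of_mul_eq_one_right (D.T_sq ht), eq_inv_iff_mul_eq_one]
    calc t * x * t * x = x⁻¹ * (x * t * (x * t)) * x * (x⁻¹ * t⁻¹ * x * (x⁻¹ * t * x)) := by group
      _ = 1 := by rw [h1]; group
  · rintro x hx _ ⟨k, rfl⟩
    have h1 : x * D.rho ht.2 (D.T_b ht) k * t = k * (x * t) * (k : G)⁻¹ := by
      rw [rho_apply, ← mul_assoc x, D.H_comm (mem x hx) k.2]; group
    change x * D.rho ht.2 (D.T_b ht) k * t ∈ D.T
    rw [h1]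
    refine ⟨hx.1.trans (isConj_iff.2 ⟨k, rfl⟩), ?_⟩
    rw [mul_smul, mul_smul, (D.H.inv_mem k.2).1, hx.2, k.2.2]

theorem card_X_T : Nat.card D.X = D.q ∧ D.T.ncard = D.q - 1 := by
  obtain ⟨k, hk, e⟩ := D.exists_card_cent {D.z}
  have hne := D.card_cent_ne D.z_mem D.z_ne_one
  have hk' : k < D.n * 3 := lt_of_le_of_ne hk fun h => hne (by rw [e, h, pow_mul]; rfl)
  have h1 := D.count_T
  change Nat.card D.X = _ at e
  rw [e] at h1 ⊢
  have h2 : D.T.Nonempty := by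
    rw [Set.nonempty_iff_ne_empty]
    intro h
    rw [h, Set.ncard_empty, zero_mul] at h1
    have : D.p ^ k < D.q ^ 3 := by
      rw [q, ← pow_mul]
      exact Nat.pow_lt_pow_right D.hp.one_lt hk'
    omega
  obtain ⟨t, ht⟩ := h2
  obtain ⟨rfl, h3⟩ := onan_numeric D.three_le_p D.hn hk' h1
    ((D.card_T_dichotomy ht).1.trans D.card_H_dvd)
  exact ⟨rfl, h3⟩

theorem card_X : Nat.card D.X = D.q := D.card_X_T.1

theorem T_nonempty : D.T.Nonempty := by
  have h := D.card_X_T.2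
  have := D.three_le_q
  exact Set.nonempty_of_ncard_ne_zero (by omega)

theorem ncard_fix_z : (fixedBy Ω D.z).ncard = D.q + 1 := by
  rw [D.ncard_fixedBy D.z_mem, ← D.card_X]; rfl

end OData

end Cfsg.Lib.U3
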