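import Cfsg.Agent.Perm.ZassRecog

/-!
# Projective line coordinates for an action that is sharply triply transitive modulo its kernel
-/

set_option autoImplicit false

open MulAction OnePoint

namespace Cfsg.Lib.U3

open Cfsg.Lib.Perm

theorem exists_line_z2 {G Ω : Type*} [Group G] [MulAction G Ω] {a b : Ω} (hZ : Z2 G Ω) [Finite Ω]
    (hab : a ≠ b) (h3 : 3 ≤ Nat.card Ω) (ht : IsMultiplyPretransitive G Ω 3)
    (hc : ∀ h ∈ (stabilizer G a ⊓ stabilizer G b : Subgroup G),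
      ∀ k ∈ (stabilizer G a ⊓ stabilizer G b : Subgroup G), h * k = k * h)
    (hinv : ∀ s h : G, s • a = b → s • b = a → h • a = a → h • b = b →
      s * (h * h) * s⁻¹ = (h * h)⁻¹) :
    ∃ (K : Type) (_ : Field K) (_ : Fintype K) (e : OnePoint K ≃ Ω), e ∞ = a ∧ e (0 : K) = b ∧
      (∀ g : G, g • a = a → ∃ c d : K, ∀ r : K, g • e r = e (c * r + d : K)) ∧
      ∃ s : G, s • a = b ∧ s • b = a ∧ ∀ r : K, r ≠ 0 → s • e r = e (-r⁻¹ : K) := by
  obtain ⟨c, hca, hcb⟩ := exists_ne_ne_of_three_le h3 a b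
  have hd := hZ.card_stab2_of_three ht hab hca hcb
  obtain ⟨K, _, _, _, e, M, e1, e2, he, h1, -⟩ := hZ.exists_field hab h3 le_rfl hc (by omega)
  have hc : Nat.card Ω = Nat.card K + 1 := by rw [← Nat.card_congr e, card_onePoint]
  have memH : ∀ h : G, MSet.IsH K h ↔ h • a = a ∧ h • b = b := fun h => by
    rw [← e1, ← e2, ← he, ← he, e.apply_eq_iff_eq, e.apply_eq_iff_eq]; rfl
  have memS : ∀ h : G, MSet.IsS K h ↔ h • a = b ∧ h • b = a := fun h => by
    rw [← e1, ← e2, ← he, ← he, e.apply_eq_iff_eq, e.apply_eq_iff_eq]; rfl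
  have hlin : ∀ h : G, MSet.IsH K h → ∃ c : K, ∀ x : K, MSet.act h x = c * x :=
    fun h hh => h1 h ((memH h).mp hh)
  have ht' := isMultiplyPretransitive_of_equiv e he ht
  have hsp : ∀ y : K, M.til y = -y := by
    rcases Nat.even_or_odd (Nat.card (stabilizer G a ⊓ stabilizer G b : Subgroup G)) with h | h
    · obtain ⟨t, h1, h2, h3⟩ := hZ.exists_invol_of_even h
      exact M.til_eq_neg_of_invol ((memH t).mpr h3) h1 h2
    · refine M.til_eq_neg_of_char_two fun x => ?_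
      have h2 : ringChar K = 2 := by
        rw [FiniteField.even_card_iff_char_two, ← Nat.card_eq_fintype_card]
        rw [Nat.odd_iff] at h
        omega
      have : CharP K 2 := h2 ▸ ringChar.charP K
      exact CharTwo.neg_eq x
  have hs := M.mu_isS (one_ne_zero (α := K))
  have hmu : ∀ x : K, x ≠ 0 → MSet.act (M.mu 1) x = -x⁻¹ := by
    refine fun x hx => M.act_mu_one hlin hsp (fun r x hr => ?_) hx
    obtain ⟨h, f1, f2, f3⟩ := exists_smul_three ht' (infty_ne_coe (0 : K))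
      (fun e => zero_ne_one (coe_eq_coe.mp e)) (infty_ne_coe (1 : K)) (infty_ne_coe (0 : K))
      (fun e => hr (coe_eq_coe.mp e).symm) (infty_ne_coe r)
    have hh : MSet.IsH K h := ⟨f1, f2⟩
    obtain ⟨c, hc⟩ := hlin h hh
    have : c = r := by rw [← MSet.act_of_eq f3, hc, mul_one]
    subst this
    have g1 : ∀ x : K, MSet.act (h * h) x = c ^ 2 * x := fun x => by
      rw [MSet.act_mul (Or.inl hh) (Or.inl hh), hc, hc]; ring
    have g2 := hinv _ h ((memS _).mp hs).1 ((memS _).mp hs).2 ((memH _).mp hh).1 ((memH _).mp hh).2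
    rw [← g1, ← MSet.act_mul (Or.inr hs) (Or.inl (hh.mul hh)), mul_inv_eq_iff_eq_mul.mp g2,
      MSet.act_mul (Or.inl (hh.mul hh).inv) (Or.inr hs)]
    apply mul_left_cancel₀ (pow_ne_zero 2 hr)
    rw [← g1, MSet.act_act_inv (Or.inl (hh.mul hh)), mul_inv_cancel_left₀ (pow_ne_zero 2 hr)]
  refine ⟨K, inferInstance, inferInstance, e, e1, e2, fun g hg => ?_, M.mu 1,
    ((memS _).mp hs).1, ((memS _).mp hs).2, fun r hr => ?_⟩
  · have hg' : g • (∞ : OnePoint K) = ∞ := e.injective (by rw [he, e1, hg])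
    have h0 : g • ((0 : K) : OnePoint K) ≠ ∞ := fun e =>
      coe_ne_infty _ (MulAction.injective g (e.trans hg'.symm))
    have hh : MSet.IsH K (M.t (-MSet.act g 0) * g) := ⟨by rw [mul_smul, hg', M.t_infty],
      by rw [mul_smul, MSet.smul_coe_of_ne h0, M.t_coe, add_neg_cancel]⟩
    obtain ⟨c, hc⟩ := hlin _ hh
    refine ⟨c, MSet.act g 0, fun r => ?_⟩
    rw [← he, ← M.t_coe, ← hc, ← hh.smul_coe, ← mul_smul, ← mul_assoc, ← M.t_add, add_neg_cancel,
      M.t_zero, one_mul]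
  · rw [← he, hs.smul_coe hr, hmu r hr]

theorem exists_line {C Δ : Type*} [Group C] [MulAction C Δ] [Finite Δ] {a b : Δ} (hab : a ≠ b)
    (h3 : 3 ≤ Nat.card Δ) (two : ∀ c c' : Δ, c ≠ c' → ∃ g : C, g • a = c ∧ g • b = c')
    (three : ∀ h : C, h • a = a → h • b = b → ∀ c, c ≠ a → c ≠ b → h • c = c → ∀ x : Δ, h • x = x)
    (tr3 : ∀ c c' : Δ, c ≠ a → c ≠ b → c' ≠ a → c' ≠ b →
      ∃ h : C, h • a = a ∧ h • b = b ∧ h • c = c')
    (comm : ∀ h k : C, h • a = a → h • b = b → k • a = a → k • b = b → h * k = k * h)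
    (inv : ∀ s h : C, s • a = b → s • b = a → h • a = a → h • b = b →
      ∀ x : Δ, (s * h * s⁻¹ * h) • x = x) :
    ∃ (K : Type) (_ : Field K) (_ : Fintype K) (e : OnePoint K ≃ Δ), e ∞ = a ∧ e (0 : K) = b ∧
      (∀ g : C, g • a = a → ∃ c d : K, ∀ r : K, g • e r = e (c * r + d : K)) ∧
      ∃ s : C, s • a = b ∧ s • b = a ∧ ∀ r : K, r ≠ 0 → s • e r = e (-r⁻¹ : K) := by
  let π := (toPermHom C Δ).rangeRestrict
  have hπ : ∀ (g : C) (x : Δ), π g • x = g • x := fun _ _ => rfl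
  have sπ : Function.Surjective π := MonoidHom.rangeRestrict_surjective _
  have one : ∀ g : C, (∀ x : Δ, g • x = x) → π g = 1 := fun g hg =>
    Subtype.ext (Equiv.ext hg)
  have ne : ∀ (g : C) {x y : Δ}, g • x ≠ y → x ≠ g⁻¹ • y := fun g x y h e =>
    h (by rw [e, smul_inv_smul])
  have hZ : Z2 (toPermHom C Δ).range Δ := by
    refine ⟨fun {x y x' y'} h h' => ?_, fun {g x y w} h1 h2 h3 e1 e2 e3 => ?_, fun {g} hg => ?_⟩
    · obtain ⟨g, rfl, rfl⟩ := two x y h
      obtain ⟨g', rfl, rfl⟩ := two x' y' h'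
      exact ⟨π (g' * g⁻¹), by rw [hπ, mul_smul, inv_smul_smul], by rw [hπ, mul_smul, inv_smul_smul]⟩
    · obtain ⟨g, rfl⟩ := sπ g
      obtain ⟨k, rfl, rfl⟩ := two x y h1
      rw [hπ] at e1 e2 e3
      have := three (k⁻¹ * g * k) (by rw [mul_smul, mul_smul, e1, inv_smul_smul])
        (by rw [mul_smul, mul_smul, e2, inv_smul_smul]) (k⁻¹ • w) (ne k h3).symm (ne k h2).symm
        (by rw [mul_smul, mul_smul, smul_inv_smul, e3])
      refine one g fun x => ?_
      have := this (k⁻¹ • x)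
      rw [mul_smul, mul_smul, smul_inv_smul] at this
      exact MulAction.injective _ this
    · exact Subtype.ext (Equiv.ext hg)
  have ht : IsMultiplyPretransitive (toPermHom C Δ).range Δ 3 := by
    refine ⟨fun x y => ?_⟩
    obtain ⟨g, g0, g1⟩ := two (x 0) (x 1) (x.injective.ne (by decide))
    obtain ⟨g', g0', g1'⟩ := two (y 0) (y 1) (y.injective.ne (by decide))
    obtain ⟨h, h0, h1, h2⟩ := tr3 (g⁻¹ • x 2) (g'⁻¹ • y 2)
      (ne g (g0 ▸ x.injective.ne (by decide))).symm (ne g (g1 ▸ x.injective.ne (by decide))).symm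
      (ne g' (g0' ▸ y.injective.ne (by decide))).symm
      (ne g' (g1' ▸ y.injective.ne (by decide))).symm
    refine ⟨π (g' * h * g⁻¹), Function.Embedding.ext fun i => ?_⟩
    rw [Function.Embedding.smul_apply, hπ, mul_smul, mul_smul]
    fin_cases i
    · change g' • h • g⁻¹ • x 0 = y 0
      rw [← g0, inv_smul_smul, h0, g0']
    · change g' • h • g⁻¹ • x 1 = y 1
      rw [← g1, inv_smul_smul, h1, g1']
    · change g' • h • g⁻¹ • x 2 = y 2
      rw [h2, smul_inv_smul]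
  obtain ⟨K, _, _, e, e1, e2, h1, s, s1, s2, s3⟩ := exists_line_z2 hZ hab h3 ht
    (fun h hh k hk => by
      obtain ⟨h, rfl⟩ := sπ h
      obtain ⟨k, rfl⟩ := sπ k
      rw [← map_mul, comm h k hh.1 hh.2 hk.1 hk.2, map_mul])
    (fun s h s1 s2 h1 h2 => by
      obtain ⟨h, rfl⟩ := sπ h
      obtain ⟨s, rfl⟩ := sπ s
      have := one _ (inv s (h * h) s1 s2 (by rw [mul_smul, ← hπ h a, h1, ← hπ, h1])
        (by rw [mul_smul, ← hπ h b, h2, ← hπ, h2]))
      simp only [map_mul, map_inv] at this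
      exact eq_inv_of_mul_eq_one_left this)
  obtain ⟨s, rfl⟩ := sπ s
  exact ⟨K, inferInstance, inferInstance, e, e1, e2, fun g hg => h1 (π g) hg, s, s1, s2, s3⟩

end Cfsg.Lib.U3
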