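import Cfsg.Agent.U3.OddCore
import Cfsg.Agent.U3.OddLine
import Cfsg.Agent.Class.SL2Steinberg

/-!
# The subgroup `SL₂(q)` of the centraliser of `z`
-/

set_option autoImplicit false

open MulAction OnePoint Matrix
open scoped MatrixGroups

namespace Cfsg.Lib.U3

open Cfsg.Lib.Chev.Core Cfsg.Lib.Class

section Mat

variable {K : Type*} [Field K]

/-- The element of `SL₂` with given entries. -/
def sl2M (a b c d : K) (h : a * d - b * c = 1) : SL(2, K) :=
  ⟨!![a, b; c, d], by simpa [det_fin_two] using h⟩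

@[simp] theorem sl2M_00 {a b c d : K} (h : a * d - b * c = 1) : sl2M a b c d h 0 0 = a := rfl
@[simp] theorem sl2M_01 {a b c d : K} (h : a * d - b * c = 1) : sl2M a b c d h 0 1 = b := rfl
@[simp] theorem sl2M_10 {a b c d : K} (h : a * d - b * c = 1) : sl2M a b c d h 1 0 = c := rfl
@[simp] theorem sl2M_11 {a b c d : K} (h : a * d - b * c = 1) : sl2M a b c d h 1 1 = d := rfl

theorem r1n_sl2 {t : K} (ht : t ≠ 0) : r1n sl2U sl2V t = sl2M 0 t (-t⁻¹) 0 (by simp [ht]) := by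
  apply sl2_ext <;> simp only [r1n, sl2_mul_apply] <;> simp [sl2U, sl2V, ht]

theorem r1n_sl2_conj {t : K} (ht : t ≠ 0) (u : K) :
    r1n sl2U sl2V t * sl2U u * (r1n sl2U sl2V t)⁻¹ = sl2V (-(t⁻¹ ^ 2 * u)) := by
  rw [mul_inv_eq_iff_eq_mul, r1n_sl2 ht]
  apply sl2_ext <;> simp only [sl2_mul_apply] <;> simp [sl2U, sl2V]
  field_simp

theorem sl2V_eq_conj (t : K) : sl2V t = sl2W * sl2U (-t) * sl2W⁻¹ := by
  rw [eq_mul_inv_iff_mul_eq]
  apply sl2_ext <;> simp only [sl2_mul_apply] <;> simp [sl2U, sl2V, sl2W]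

variable [DecidableEq K]

theorem sl_smul_infty (m : SL(2, K)) : SpecialLinearGroup.toGL m • (∞ : OnePoint K) =
    if m 1 0 = 0 then ∞ else ((m 0 0 / m 1 0 : K) : OnePoint K) := smul_infty_eq_ite _

theorem sl_smul_coe (m : SL(2, K)) (r : K) : SpecialLinearGroup.toGL m • (r : OnePoint K) =
    if m 1 0 * r + m 1 1 = 0 then ∞
    else (((m 0 0 * r + m 0 1) / (m 1 0 * r + m 1 1) : K) : OnePoint K) := smul_some_eq_ite

theorem eq_of_smul_triv {m : SL(2, K)}
    (h : ∀ r : OnePoint K, SpecialLinearGroup.toGL m • r = r) : m = 1 ∨ m = -1 := by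
  have hd := sl2_det m
  have h1 : m 1 0 = 0 := smul_infty_eq_self_iff.1 (h ∞)
  have h4 : m 1 1 ≠ 0 := fun e => by simp [h1, e] at hd
  have h2 := h (0 : K)
  have h3 := h (1 : K)
  rw [sl_smul_coe] at h2 h3
  simp only [h1, zero_add, h4, if_false,
    coe_eq_coe, mul_zero, mul_one, div_eq_zero_iff, or_false] at h2 h3
  rw [h2, add_zero, div_eq_one_iff_eq h4] at h3
  rw [h1, h3, mul_zero, sub_zero] at hd
  rcases mul_self_eq_one_iff.1 hd with e | e
  · left
    apply sl2_ext <;> simp [h1, h2, h3, e]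
  · right
    apply sl2_ext <;> simp [h1, h2, h3, e]

/-- An element of `SL₂` over a finite field of odd order fixes a point of the projective line or
is a real element with non-trivial square. -/
theorem exists_fix_or_real [Fintype K] (hK : Odd (Nat.card K)) (m : SL(2, K)) :
    (∃ r : OnePoint K, SpecialLinearGroup.toGL m • r = r) ∨
      m * m ≠ 1 ∧ ∃ n : SL(2, K), m * n * m = n := by
  have h2 : (2 : K) ≠ 0 := by
    intro h
    have := (FiniteField.even_card_iff_char_two (F := K)).1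
      (CharP.ringChar_of_prime_eq_zero Nat.prime_two (by exact_mod_cast h))
    rw [Nat.card_eq_fintype_card, Nat.odd_iff] at hK
    omega
  have hd := sl2_det m
  by_cases h1 : m 1 0 = 0
  · exact Or.inl ⟨∞, smul_infty_eq_self_iff.2 h1⟩
  by_cases hD : (m 0 0 - m 1 1) ^ 2 + 4 * (m 0 1 * m 1 0) = 0
  · refine Or.inl ⟨((m 0 0 - m 1 1) / (2 * m 1 0) : K), ?_⟩
    rw [← GeneralLinearGroup.fixpointPolynomial_aeval_eq_zero_iff]
    simp only [GeneralLinearGroup.fixpointPolynomial, map_sub, map_mul, map_add,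
      Polynomial.aeval_X_pow, Polynomial.aeval_C, Polynomial.aeval_X,
      Algebra.algebraMap_self_apply, SpecialLinearGroup.coe_GL_coe_matrix]
    field_simp
    linear_combination (-1 : K) * hD
  refine Or.inr ⟨fun e => ?_, ?_⟩
  · have e1 := congrArg (fun g : SL(2, K) => g 1 0) e
    have e2 := congrArg (fun g : SL(2, K) => g 0 0) e
    simp only [sl2_mul_apply] at e1 e2
    change _ = (0 : K) at e1
    change _ = (1 : K) at e2
    have e3 : m 0 0 + m 1 1 = 0 := mul_left_cancel₀ h1 (by linear_combination e1)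
    exact h2 (by linear_combination m 0 0 * e3 - hd - e2)
  · obtain ⟨v, u, hvu⟩ := FiniteField.exists_root_sum_quadratic (R := K)
      (f := Polynomial.X ^ 2 + Polynomial.C (4 * m 1 0 ^ 2))
      (g := Polynomial.C (-((m 0 0 - m 1 1) ^ 2 + 4 * (m 0 1 * m 1 0))) * Polynomial.X ^ 2)
      (Polynomial.degree_X_pow_add_C (by decide) _)
      (Polynomial.degree_C_mul_X_pow _ (neg_ne_zero.2 hD))
      (by rw [← Nat.card_eq_fintype_card]; exact Nat.odd_iff.1 hK)
    simp only [Polynomial.eval_add, Polynomial.eval_pow, Polynomial.eval_X, Polynomial.eval_C,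
      Polynomial.eval_mul] at hvu
    obtain ⟨r, hr⟩ : ∃ r, 2 * m 1 0 * r = v + (m 0 0 - m 1 1) * u :=
      ⟨(v + (m 0 0 - m 1 1) * u) / (2 * m 1 0), by field_simp⟩
    obtain ⟨s, hs⟩ : ∃ s, r * (m 0 0 - m 1 1) + s * m 1 0 + u * m 0 1 = 0 :=
      ⟨-(r * (m 0 0 - m 1 1) + u * m 0 1) / m 1 0, by field_simp; ring⟩
    have hdet : -(r * r) - s * u = 1 := by
      refine mul_left_cancel₀ (mul_ne_zero (pow_ne_zero 2 h2) (pow_ne_zero 2 h1)) ?_
      linear_combination (-(2 * m 1 0 * r - (m 0 0 - m 1 1) * u + v)) * hr -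
        4 * m 1 0 * u * hs - hvu
    refine ⟨sl2M r s u (-r) (by linear_combination hdet), ?_⟩
    apply sl2_ext <;> simp only [sl2_mul_apply, sl2M_00, sl2M_01, sl2M_10, sl2M_11]
    · linear_combination m 0 0 * hs + r * hd
    · linear_combination m 0 1 * hs + s * hd
    · linear_combination m 1 0 * hs + u * hd
    · linear_combination m 1 1 * hs - r * hd

end Mat

namespace OData

variable {G Ω : Type*} [Group G] [MulAction G Ω] (D : OData G Ω) [Finite G]

/-- Coordinates on the fixed points of `z`. -/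
structure Coord (K : Type) [Field K] where
  e : OnePoint K → Ω
  w : G
  inj : Function.Injective e
  fix : ∀ r, D.z • e r = e r
  surj : ∀ c, D.z • c = c → ∃ r, e r = c
  e_inf : e ∞ = D.a
  e_zero : e (0 : K) = D.b
  aff : ∀ g : G, g * D.z = D.z * g → g • D.a = D.a →
    ∃ c d : K, ∀ r : K, g • e r = e (c * r + d : K)
  w_a : w • D.a = D.b
  w_b : w • D.b = D.a
  w_e : ∀ r : K, r ≠ 0 → w • e r = e (-r⁻¹ : K)

theorem exists_coord : ∃ (K : Type) (_ : Field K) (_ : Fintype K), Nonempty (D.Coord K) := by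
  have := D.finite
  have cz : ∀ g : Subgroup.centralizer {D.z}, (g : G) * D.z = D.z * g := fun g =>
    Subgroup.mem_centralizer_singleton_iff.1 g.2
  let Δ : SubMulAction (Subgroup.centralizer {D.z}) Ω :=
    ⟨fixedBy Ω D.z, fun g _ hc => D.fix_of_comm (cz g) hc⟩
  have hq := D.three_le_q
  have mk : ∀ {g : G}, g * D.z = D.z * g → g ∈ Subgroup.centralizer {D.z} := fun h =>
    Subgroup.mem_centralizer_singleton_iff.2 h
  have ne : ∀ {c c' : Δ}, c ≠ c' → (c : Ω) ≠ c' := fun h e => h (Subtype.ext e)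
  have vl : ∀ {g : Subgroup.centralizer {D.z}} {c c' : Δ}, g • c = c' → (g : G) • (c : Ω) = c' :=
    fun h => congrArg Subtype.val h
  obtain ⟨K, _, _, e, e1, e2, h1, s, s1, s2, s3⟩ := exists_line (C := Subgroup.centralizer {D.z})
    (Δ := Δ) (a := ⟨D.a, D.z_mem.1⟩) (b := ⟨D.b, D.z_mem.2⟩)
    (fun e => D.ne (congrArg Subtype.val e).symm)
    (by
      have : Nat.card Δ = D.q + 1 := D.ncard_fix_z
      omega)
    (fun c c' h => by
      obtain ⟨g, g1, g2, g3⟩ := D.witt_z (ne h) c.2 c'.2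
      exact ⟨⟨g, mk g1⟩, Subtype.ext g2, Subtype.ext g3⟩)
    (fun h h1 h2 c c1 c2 hc x =>
      Subtype.ext (D.mem_Y_of_third ⟨vl h1, vl h2⟩ c.2 (ne c1) (ne c2) (vl hc) x x.2))
    (fun c c' c1 c2 c3 c4 => by
      obtain ⟨h, hh, e⟩ := D.trans_third c.2 (ne c1) (ne c2) c'.2 (ne c3) (ne c4)
      exact ⟨⟨h, mk (D.H_comm hh D.z_mem)⟩, Subtype.ext hh.1, Subtype.ext hh.2, Subtype.ext e⟩)
    (fun h k h1 h2 k1 k2 => Subtype.ext (D.H_comm ⟨vl h1, vl h2⟩ ⟨vl k1, vl k2⟩))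
    (fun s h s1 s2 h1 h2 x => by
      have hh : (h : G) ∈ D.H := ⟨vl h1, vl h2⟩
      have h3 := D.conj_mem_H (vl s1) (vl s2) hh
      have h4 : (s : G) * s ∈ D.H :=
        ⟨show _ • _ = _ by rw [mul_smul, vl s1, vl s2], show _ • _ = _ by rw [mul_smul, vl s2, vl s1]⟩
      refine Subtype.ext (D.mem_Y_of_swap (vl s1) (vl s2) (D.H.mul_mem h3 hh) ?_ x x.2)
      calc (s : G) * (s * h * (s : G)⁻¹ * h) = s * s * h * (s * s : G)⁻¹ * (s * h * (s : G)⁻¹) * s := by
            group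
        _ = _ := by rw [D.H_comm h4 hh, mul_inv_cancel_right, D.H_comm hh h3])
  exact ⟨K, inferInstance, inferInstance, ⟨fun r => e r, s, Subtype.val_injective.comp e.injective,
    fun r => (e r).2, fun c hc => ⟨e.symm ⟨c, hc⟩, by simp⟩, by simp [e1], by simp [e2],
    fun g hg ha => by
      obtain ⟨c, d, h⟩ := h1 ⟨g, mk hg⟩ (Subtype.ext ha)
      exact ⟨c, d, fun r => vl (h r)⟩,
    vl s1, vl s2, fun r hr => vl (s3 r hr)⟩⟩

namespace Coord

variable {D} {K : Type} [Field K] (C : D.Coord K)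

include C in
theorem card_K [Finite K] : Nat.card K = D.q := by
  have h := D.ncard_fix_z
  have : fixedBy Ω D.z = Set.range C.e :=
    Set.ext fun c => ⟨C.surj c, by rintro ⟨r, rfl⟩; exact C.fix r⟩
  rw [this, Set.ncard_range_of_injective C.inj, Perm.card_onePoint] at h
  omega

theorem e_ne (r : K) : C.e r ≠ D.a := fun h => coe_ne_infty r (C.inj (h.trans C.e_inf.symm))

/-- The translations. -/
noncomputable def x (s : K) : G := (D.trans _ (C.e_ne s)).choose

theorem x_mem (s : K) : C.x s ∈ D.U := (D.trans _ (C.e_ne s)).choose_spec.1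

theorem x_b (s : K) : C.x s • D.b = C.e s := (D.trans _ (C.e_ne s)).choose_spec.2

theorem x_mem_X (s : K) : C.x s ∈ D.X := (D.fix_z_iff (C.x_mem s)).1 (by rw [x_b, C.fix])

theorem exists_x {u : G} (hu : u ∈ D.X) : ∃ s, u = C.x s := by
  obtain ⟨r, hr⟩ := C.surj _ ((D.fix_z_iff hu.1).2 hu)
  induction r using OnePoint.rec with
  | infty => exact (D.smul_b_ne (D.U_fix u hu.1) (hr.symm.trans C.e_inf)).elim
  | coe s => exact ⟨s, D.U_inj hu.1 (C.x_mem s) (by rw [x_b, hr])⟩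

theorem x_e (s r : K) : C.x s • C.e r = C.e (r + s : K) := by
  obtain ⟨c, d, h⟩ := C.aff _ (D.mem_X.1 (C.x_mem_X s)).2 (D.U_fix _ (C.x_mem s))
  have hd : d = s := by
    have := h 0
    rw [C.e_zero, x_b, mul_zero, zero_add] at this
    exact (coe_eq_coe.1 (C.inj this)).symm
  subst hd
  have hc : c = 1 := by
    by_contra hc
    have h1 := D.free' (C.x_mem d) (C.e_ne (d / (1 - c))) (by
      rw [h]
      congr 2
      have := sub_ne_zero.2 (Ne.symm hc)
      field_simp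
      ring)
    have h2 := h 0
    have h3 := h 1
    rw [h1, one_smul] at h2 h3
    have h4 := coe_eq_coe.1 (C.inj h2)
    have h5 := coe_eq_coe.1 (C.inj h3)
    exact hc (by linear_combination h4 - h5)
  rw [h, hc, one_mul]

theorem x_add (s r : K) : C.x s * C.x r = C.x (s + r) :=
  D.U_inj (D.U.mul_mem (C.x_mem s) (C.x_mem r)) (C.x_mem _) (by
    rw [mul_smul, x_b, x_e, x_b, add_comm])

/-- The opposite root elements. -/
noncomputable def y (s : K) : G := C.w * C.x (-s) * C.w⁻¹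

variable [DecidableEq K]

/-- `g` centralises `z` and acts on its fixed points as `m`. -/
def Rep (g : G) (m : SL(2, K)) : Prop :=
  g * D.z = D.z * g ∧ ∀ r, g • C.e r = C.e (SpecialLinearGroup.toGL m • r)

variable {C} in
theorem Rep.mul {g g' : G} {m m' : SL(2, K)} (h : C.Rep g m) (h' : C.Rep g' m') :
    C.Rep (g * g') (m * m') :=
  ⟨(Commute.mul_left h.1 h'.1).eq, fun r => by rw [mul_smul, h'.2, h.2, map_mul, mul_smul]⟩

variable {C} in
theorem Rep.inv {g : G} {m : SL(2, K)} (h : C.Rep g m) : C.Rep g⁻¹ m⁻¹ :=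
  ⟨(Commute.inv_left h.1).eq, fun r => by rw [inv_smul_eq_iff, h.2, map_inv, smul_inv_smul]⟩

theorem rep_one : C.Rep 1 1 := ⟨by simp, fun r => by simp⟩

theorem rep_x (s : K) : C.Rep (C.x s) (sl2U s) := by
  refine ⟨(D.mem_X.1 (C.x_mem_X s)).2, fun r => ?_⟩
  induction r using OnePoint.rec with
  | infty => rw [sl_smul_infty, if_pos (by simp [sl2U]), C.e_inf, D.U_fix _ (C.x_mem s)]
  | coe r => rw [x_e, sl_smul_coe]; simp [sl2U]

theorem rep_w : C.Rep C.w sl2W := by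
  refine ⟨D.swap_comm_z C.w_a C.w_b, fun r => ?_⟩
  induction r using OnePoint.rec with
  | infty => rw [sl_smul_infty, C.e_inf, C.w_a, ← C.e_zero]; simp [sl2W]
  | coe r =>
    rw [sl_smul_coe]
    by_cases hr : r = 0
    · rw [hr, C.e_zero, C.w_b, ← C.e_inf]; simp [sl2W]
    · rw [C.w_e r hr]; simp [sl2W, hr, inv_neg]

theorem rep_y (s : K) : C.Rep (C.y s) (sl2V s) := by
  rw [sl2V_eq_conj]
  exact (C.rep_w.mul (C.rep_x _)).mul C.rep_w.inv

theorem rep_n (t : K) : C.Rep (r1n C.x C.y t) (r1n sl2U sl2V t) :=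
  ((C.rep_x _).mul (C.rep_y _)).mul (C.rep_x _)

theorem n_a {t : K} (ht : t ≠ 0) : r1n C.x C.y t • D.a = D.b := by
  rw [← C.e_inf, (C.rep_n t).2, r1n_sl2 ht, sl_smul_infty, ← C.e_zero]
  simp [ht]

theorem n_b {t : K} (ht : t ≠ 0) : r1n C.x C.y t • D.b = D.a := by
  rw [← C.e_zero, (C.rep_n t).2, r1n_sl2 ht, sl_smul_coe, ← C.e_inf]
  simp

theorem pre : R1Pre C.x C.y := by
  refine ⟨C.x_add, fun t u => ?_, fun t u ht => ?_⟩
  · rw [y, y, y, conj_mul, x_add, neg_add]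
  · have h1 := ((C.rep_n t).mul (C.rep_x u)).mul (C.rep_n t).inv
    rw [r1n_sl2_conj ht] at h1
    have h2 := (h1.2 ∞).trans ((C.rep_y _).2 ∞).symm
    rw [C.e_inf] at h2
    have h3 : C.w⁻¹ * r1n C.x C.y t ∈ D.H :=
      ⟨show _ • _ = _ by rw [mul_smul, C.n_a ht, inv_smul_eq_iff, C.w_a],
        show _ • _ = _ by rw [mul_smul, C.n_b ht, inv_smul_eq_iff, C.w_b]⟩
    have h4 := D.U_inj (D.norm _ h3.1 _ (C.x_mem u)) (C.x_mem (- -(t⁻¹ ^ 2 * u))) (by
      apply MulAction.injective C.w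
      change C.w • _ = C.w • _
      rw [← mul_smul, ← mul_smul, ← inv_smul_eq_iff.2 C.w_b.symm, ← mul_smul, ← mul_smul, ← y,
        ← h2]
      congr 1
      group)
    rw [y, ← h4]
    group

variable [Finite K]

/-- The homomorphism from `SL₂`. -/
noncomputable def φ : SL(2, K) →* G := C.pre.r1Rel.hom

theorem φ_U (s : K) : C.φ (sl2U s) = C.x s := C.pre.r1Rel.hom_U s

theorem φ_V (s : K) : C.φ (sl2V s) = C.y s := C.pre.r1Rel.hom_V s

theorem φ_W : C.φ sl2W = r1n C.x C.y 1 := C.pre.r1Rel.hom_W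

theorem rep_φ (m : SL(2, K)) : C.Rep (C.φ m) m := by
  let S : Submonoid SL(2, K) :=
    { carrier := {m | C.Rep (C.φ m) m}
      one_mem' := by simpa using C.rep_one
      mul_mem' := fun {m m'} h h' => by simpa using Rep.mul h h' }
  refine sl2_submonoid_eq_top S (fun t => ?_) ?_ m
  · change C.Rep _ _
    rw [φ_U]
    exact C.rep_x t
  · change C.Rep _ _
    have := C.rep_n 1
    rw [φ_W]
    rwa [show r1n sl2U sl2V (1 : K) = sl2W by rw [sl2W_eq, r1n, inv_one]] at this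

theorem W_a : C.φ sl2W • D.a = D.b := C.φ_W ▸ C.n_a one_ne_zero

theorem W_b : C.φ sl2W • D.b = D.a := C.φ_W ▸ C.n_b one_ne_zero

theorem eq_of_mem_Y {m : SL(2, K)} (h : C.φ m ∈ D.Y) : m = 1 ∨ m = -1 :=
  eq_of_smul_triv fun r => C.inj (by rw [← (C.rep_φ m).2, h _ (C.fix r)])

theorem φ_neg_one : C.φ (-1) = D.z := by
  obtain ⟨k, hk, e⟩ := D.exists_z_eq C.W_a C.W_b
  have hx : ∀ s, k * C.x s * k⁻¹ ∈ C.φ.range := fun s => by
    obtain ⟨r, hr⟩ := C.exists_x (D.conj_mem_X hk (C.x_mem_X s))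
    exact ⟨_, (C.φ_U r).trans hr.symm⟩
  have hy : ∀ s, k * C.y s * k⁻¹ ∈ C.φ.range := fun s => by
    have h1 : C.w⁻¹ * k * C.w⁻¹⁻¹ ∈ D.H :=
      D.conj_mem_H (inv_smul_eq_iff.2 C.w_b.symm) (inv_smul_eq_iff.2 C.w_a.symm) hk
    obtain ⟨r, hr⟩ := C.exists_x (D.conj_mem_X h1 (C.x_mem_X (-s)))
    refine ⟨sl2V (-r), ?_⟩
    rw [φ_V, y, y, neg_neg, ← hr]
    group
  have hw : k * C.φ sl2W * k⁻¹ ∈ C.φ.range := by
    rw [φ_W, r1n, ← conj_mul, ← conj_mul]
    exact C.φ.range.mul_mem (C.φ.range.mul_mem (hx _) (hy _)) (hx _)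
  obtain ⟨m, hm⟩ : D.z ∈ C.φ.range := by
    rw [← D.z_inv, e, show (k * (C.φ sl2W * k * (C.φ sl2W)⁻¹)⁻¹)⁻¹ =
      C.φ sl2W * (k * C.φ sl2W * k⁻¹)⁻¹ by group]
    exact C.φ.range.mul_mem ⟨_, rfl⟩ (C.φ.range.inv_mem hw)
  rcases C.eq_of_mem_Y (m := m) (by rw [hm]; exact fun c hc => hc) with rfl | rfl
  · exact (D.z_ne_one (hm.symm.trans (map_one _))).elim
  · exact hm

theorem φ_eq_one {m : SL(2, K)} (h : C.φ m = 1) : m = 1 := by
  rcases C.eq_of_mem_Y (m := m) (h ▸ D.Y.one_mem) with rfl | rfl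
  · rfl
  · exact (D.z_ne_one (C.φ_neg_one.symm.trans h)).elim

theorem semireg (m : SL(2, K)) (c : Ω) (hc : C.φ m • c = c) : m = 1 ∨ D.z • c = c := by
  by_contra hn
  push Not at hn
  obtain ⟨hm, hz⟩ := hn
  obtain ⟨g, g1, g2⟩ := D.two hz.symm
  have s1 : D.z • (D.move g).a = (D.move g).b := by rw [move_a, move_b, g1, g2]
  have s2 : D.z • (D.move g).b = (D.move g).a := by rw [move_a, move_b, g1, g2, D.z_smul_z]
  have hcm := (C.rep_φ m).1
  have hH : C.φ m ∈ (D.move g).H :=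
    ⟨show _ • g • D.a = g • D.a by rw [g1, hc],
      show _ • g • D.b = g • D.b by rw [g2, ← mul_smul, hcm, mul_smul, hc]⟩
  have hY := (D.move g).mem_Y_of_swap s1 s2 hH hcm.symm
  have h1 : C.φ m ≠ 1 := fun e => hm (C.φ_eq_one e)
  have := Fintype.ofFinite K
  rcases exists_fix_or_real (C.card_K ▸ D.odd_q) m with ⟨r, hr⟩ | ⟨h2, n, hn⟩
  · have h3 := (D.move g).fix_of_mem_Y hY h1 (c := C.e r) (by rw [(C.rep_φ m).2, hr])
    rcases D.eq_z_of_comm (D.move g).z_mul_z ((D.move g).swap_comm_z s1 s2).symm (C.fix r) h3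
      with e | e
    · exact (D.move g).z_ne_one e
    · have : (D.move g).z • g • D.a = g • D.a := (D.move g).z_mem.1
      rw [e, g1] at this
      exact hz this
  · obtain ⟨c', c0, c1, c2⟩ := (D.move g).exists_third
    have e : C.φ m * C.φ n = C.φ n * (C.φ m)⁻¹ := by
      rw [eq_mul_inv_iff_mul_eq, ← map_mul, ← map_mul, hn]
    have h3 := (D.move g).comm_of_third hH c1 c2 (hY c' c0) (g := C.φ n)
      (((D.move g).mem_normalizer_iff hH).2
        ⟨by rw [← mul_smul, e, mul_smul, ((D.move g).H.inv_mem hH).1],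
          by rw [← mul_smul, e, mul_smul, ((D.move g).H.inv_mem hH).2]⟩)
    rw [← h3] at e
    exact h2 (C.φ_eq_one (by rw [map_mul, ← eq_inv_iff_mul_eq_one]; exact mul_left_cancel e))

end Coord

end OData

end Cfsg.Lib.U3
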